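import Cfsg.Agent.Lib.Spor.Co1SevenFix

/-!
Data for a permutation of odd prime order with twelve cycles, acting on the lattice, and the conditions
on the data.
-/

set_option autoImplicit false

namespace Cfsg.Agent.Spor.CoBig

open Cfsg Cfsg.Agent.Spor.MonsterFusion
open scoped Pointwise

local notation "Zv" => GolayPt → ℤ
set_option quotPrecheck false in
local notation "Lv" => ↥leechLattice
local notation "V12" => Fin 12 → ZMod 2

/-- the data -/
structure Dat where
  /-- the order -/
  p : ℕ
  /-- the permutation -/
  perm : List ℕ
  /-- first points of the cycles -/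
  reps : List ℕ
  /-- cycle of a point -/
  orbNum : List ℕ
  /-- position of a point -/
  orbPos : List ℕ
  /-- basis of the fixed classes -/
  basis : List (List ℤ)
  /-- dual basis -/
  dual : List (List ℤ)
  /-- fixed vectors spanning the residues modulo four -/
  resid : List (List ℤ)
  /-- numbers of some classes with short representatives, and the values of these on the cycles -/
  short : List (ℕ × List ℤ)
  /-- further such classes, each with an earlier one and a generator mapping that one to it -/
  tree : List (ℕ × ℕ × ℕ)
  /-- bound on the other classes -/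
  orbMax : ℕ
  /-- bound on the centralising permutations -/
  centMax : ℕ
  /-- fixed code words -/
  masks : List ℕ
  /-- words of the generators -/
  gens : List (List LOp)
  /-- their traces at the unit vectors, then at the basis -/
  traces : List (List (List (List ℤ)))
  /-- numbers of the classes of the images of the basis -/
  cols : List (List ℕ)

variable (D : Dat)

/-- the image of a point -/
def Dat.sx (q : GolayPt) : GolayPt := pt (D.perm.getD (idx q) 0)

/-- the cycle of a point -/
def Dat.orb (q : GolayPt) : Fin 12 := Fin.ofNat 12 (D.orbNum.getD (idx q) 0)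

/-- the first point of a cycle -/
def Dat.orep (j : Fin 12) : GolayPt := pt (D.reps.getD j 0)

/-- basis vector -/
def Dat.bF (j : Fin 12) : Zv := vecOf (D.basis.getD j [])

/-- dual vector -/
def Dat.dF (j : Fin 12) : Zv := vecOf (D.dual.getD j [])

/-- coordinates -/
def Dat.coordF (x : Zv) : V12 := fun j => ((dotInt x (D.dF j) / 8 : ℤ) : ZMod 2)

/-- combination -/
def Dat.combF (c : V12) (q : GolayPt) : ℤ := ∑ j, if c j = 1 then D.bF j q else 0

/-- the class with a number -/
def dec (n : ℕ) : V12 := fun j => if Nat.testBit n j then 1 else 0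

/-- a linear map on numbers -/
def appN : List ℕ → ℕ → ℕ
  | [], _ => 0
  | c :: L, n => bif Nat.testBit n 0 then c ^^^ appN L (n / 2) else appN L (n / 2)

/-- strictly increasing -/
def incr : ℕ → List ℕ → Bool
  | _, [] => true
  | a, b :: l => Nat.blt a b && incr b l

/-- sum of selected residue vectors -/
def rsum : List (List ℤ) → ℕ → GolayPt → ℤ
  | [], _, _ => 0
  | v :: L, s, q => (if Nat.testBit s 0 then vecOf v q else 0) + rsum L (s / 2) q

/-- each entry is new and comes from an earlier one by a generator -/
def treeOK (cols : List (List ℕ)) (g : ℕ) : ℕ → List (ℕ × ℕ × ℕ) → Bool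
  | _, [] => true
  | m, (n, p, k) :: l => Nat.blt k g && Nat.testBit m p && !Nat.testBit m n && Nat.blt 0 n && Nat.blt n 4096 &&
      Nat.beq (appN (cols.getD k []) p) n && treeOK cols g (2 ^ n ||| m) l

/-- the first class -/
def base : V12 := Pi.single 0 1

/-- a vector constant on cycles -/
def Dat.cvec (w : List ℤ) : Zv := fun q => w.getD (D.orb q) 0

/-- trace of a word at a unit vector or a basis vector -/
def Dat.tr (k i : ℕ) : List (List ℤ) := (D.traces.getD k []).getD i []

/-- image of a unit vector -/
def Dat.mat (k : ℕ) (i : GolayPt) : Zv := vecOf ((D.tr k (idx i)).headD [])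

/-- class of the image of a basis vector -/
def Dat.img (k : ℕ) (j : Fin 12) : V12 := D.coordF (vecOf ((D.tr k (24 + j)).headD []))

/-- columns of a generator -/
def Dat.col (k : ℕ) : List ℕ := D.cols.getD k []

/-- the linear map of a generator -/
def Dat.lin (k : ℕ) (c : V12) : V12 := ∑ j, if c j = 1 then D.img k j else 0

/-- coefficients of fixed vectors divisible by four -/
def quadVec (j i : Fin 12) : ℤ :=
  if (j : ℕ) = 11 then (if i = j then 2 else 0) else (if i = j ∨ (i : ℕ) = 11 then 1 else 0)

/-- the conditions on the permutation and the fixed vectors -/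
structure Dat.Fix : Prop where
  prime : D.p.Prime
  odd : D.p % 2 = 1
  perm_ok : m24ok D.perm = true
  pow : ∀ q, D.sx^[D.p] q = q
  moves : ∃ i, D.sx i ≠ i
  reach : ∀ q, D.sx^[D.orbPos.getD (idx q) 0] (D.orep (D.orb q)) = q
  orep_orb : ∀ j, D.orb (D.orep j) = j
  orb_sx : ∀ q, D.orb (D.sx q) = D.orb q
  size : ∀ j, (Finset.univ.filter fun q => D.orb q = j).card % 2 = 1
  basis_ok : ∀ j, leechCheck (D.bF j) = true
  dual_ok : ∀ j, leechCheck (D.dF j) = true
  pairing : ∀ j, D.coordF (D.bF j) = Pi.single j 1
  basis_fix : ∀ j q, D.bF j (D.sx q) = D.bF j q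
  base_ok : Co1Seven.congB (fun q => if q = none then 8 else 0) (D.bF 0) = true
  mask_ok : (codeMasks.all fun m =>
    !((List.range 24).all fun i => Nat.testBit m (D.perm.getD i 0) == Nat.testBit m i) || D.masks.elem m) = true
  resid_ok : (D.resid.all fun e => leechCheck (vecOf e) &&
    decide (∀ q, vecOf e q = vecOf e (D.orep (D.orb q))) &&
    Co1Seven.congB (vecOf e) (D.combF (D.coordF (vecOf e)))) = true
  resid_complete : ((List.range 2).all fun m => (List.range D.masks.length).all fun i => decide (∀ j : Fin 12,
    rsum D.resid (i + D.masks.length * m) (D.orep j) % 4 =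
      (m : ℤ) + 2 * (if Nat.testBit (D.masks.getD i 0) (idx (D.orep j)) then 1 else 0))) = true
  quad_ok : ∀ j, leechCheck (fun q => 4 * quadVec j (D.orb q)) = true ∧
    Co1Seven.congB (fun q => 4 * quadVec j (D.orb q))
      (D.combF (D.coordF fun q => 4 * quadVec j (D.orb q))) = true

/-- the conditions on classes and generators -/
structure Dat.Chk : Prop where
  short_ok : (D.short.all fun w => leechCheck (D.cvec w.2) && decide (sqNorm (D.cvec w.2) ≤ 48) &&
    decide (∀ j, D.coordF (D.cvec w.2) j = dec w.1 j)) = true
  short_incr : incr 0 (D.short.map Prod.fst) = true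
  short_lt : (D.short.all fun w => Nat.blt w.1 4096) = true
  short_tree : treeOK D.cols D.gens.length ((D.short.map Prod.fst).foldr (fun a m => 2 ^ a ||| m) 0) D.tree = true
  short_len : 4095 ≤ D.short.length + D.tree.length + D.orbMax
  words : ∀ k, k < D.gens.length → ((D.gens.getD k []).all LOp.ok &&
    (List.range 36).all fun i => traceOk (D.gens.getD k []) (D.tr k i) &&
      (D.tr k i).getLastD [] == (if i < 24 then Co1Seven.unitL i else D.basis.getD (i - 24) [])) = true
  comm : ∀ k, k < D.gens.length → ∀ i q : GolayPt, D.mat k (D.sx i) (D.sx q) = D.mat k i q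
  cols_len : ∀ k, k < D.gens.length → (D.col k).length = 12
  cols_ok : ∀ k, k < D.gens.length → ∀ j : Fin 12, ∀ i : Fin 12, D.img k j i = dec ((D.col k).getD j 0) i

end Cfsg.Agent.Spor.CoBig
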