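import Cfsg.Agent.Lib.Spor.CoBig.Defs

/-!
The classes modulo two fixed by a permutation of odd prime order with twelve cycles.
-/

set_option autoImplicit false

namespace Cfsg.Agent.Spor.CoBig

open Cfsg Cfsg.Agent.Spor.MonsterFusion
open Co1Seven (congB congB_sound cong_symm cong_add cong_sum cong_neg cong_smul co0_neg units_ext)
open scoped Pointwise

local notation "Zv" => GolayPt → ℤ
set_option quotPrecheck false in
local notation "Lv" => ↥leechLattice
local notation "V12" => Fin 12 → ZMod 2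

variable {D : Dat}

theorem Dat.Fix.mem (h : D.Fix) : lperm D.perm ∈ M24 := lperm_mem h.perm_ok

/-- the permutation -/
noncomputable def Dat.sigma (D : Dat) : Equiv.Perm GolayPt := lperm D.perm

theorem Dat.Fix.sigma_apply (h : D.Fix) (q : GolayPt) : D.sigma q = D.sx q :=
  (rep_lperm (m24ok_lok h.perm_ok)).apply q

theorem Dat.Fix.pel_exists (h : D.Fix) :
    ∃ g : ↥Co0, ∀ v : Lv, ((g • v : Lv) : Zv) = prm D.sigma (v : Zv) := exists_prm h.mem

theorem testBit_wmask (w : GolayPt → ZMod 2) (p : GolayPt) : Nat.testBit (wmask w) (idx p) = true ↔ w p = 1 := by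
  rw [wmask, testBit_mask_idx, mem_support₂]
  rcases word_eq_one_or_zero (w p) with hwp | hwp <;> simp [hwp]

/-- the element -/
noncomputable def Dat.Fix.pel (h : D.Fix) : ↥Co0 := h.pel_exists.choose

theorem Dat.Fix.pel_spec (h : D.Fix) (v : Lv) : ((h.pel • v : Lv) : Zv) = prm D.sigma (v : Zv) :=
  h.pel_exists.choose_spec v

theorem Dat.Fix.pel_apply (h : D.Fix) (v : Lv) (q : GolayPt) :
    ((h.pel • v : Lv) : Zv) (D.sx q) = (v : Zv) q := by
  rw [← h.sigma_apply, h.pel_spec]; simp [prm]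

theorem Dat.Fix.pel_e8 (h : D.Fix) (i : GolayPt) : h.pel • e8 i = e8 (D.sx i) := Subtype.ext (by
  rw [h.pel_spec, ← h.sigma_apply]
  funext q
  simp [prm, e8, Pi.single_apply, Equiv.symm_apply_eq])

theorem Dat.Fix.pel_pow_spec (h : D.Fix) : ∀ (n : ℕ) (v : Lv),
    ((h.pel ^ n • v : Lv) : Zv) = prm (D.sigma ^ n) (v : Zv)
  | 0, v => by rw [pow_zero, pow_zero, one_smul]; funext q; simp [prm, Equiv.Perm.one_def]
  | n + 1, v => by rw [pow_succ', pow_succ', mul_smul, h.pel_spec, h.pel_pow_spec n]; rfl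

theorem Dat.Fix.sigma_pow (h : D.Fix) : D.sigma ^ D.p = 1 := Equiv.ext fun q => by
  rw [Equiv.Perm.one_apply, ← Equiv.Perm.iterate_eq_pow,
    show (D.sigma : GolayPt → GolayPt) = D.sx from funext h.sigma_apply]
  exact h.pow q

theorem Dat.Fix.pel_pow (h : D.Fix) : h.pel ^ D.p = 1 := co0_ext fun v => by
  rw [h.pel_pow_spec, h.sigma_pow, one_smul]; funext q; simp [prm, Equiv.Perm.one_def]

theorem Dat.Fix.pel_ne (h : D.Fix) : h.pel ≠ 1 := by
  intro e
  obtain ⟨i, hi⟩ := h.moves
  have := congrArg (fun v : Lv => (v : Zv) (D.sx i)) (h.pel_e8 i)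
  rw [e, one_smul] at this
  simp [e8, hi] at this

/-! ### coordinates -/

theorem dot_add_l (a b y : Zv) : dotInt (a + b) y = dotInt a y + dotInt b y := by
  simp only [dotInt, Pi.add_apply, add_mul, Finset.sum_add_distrib]

theorem dot_two (a y : Zv) : dotInt (2 • a) y = 2 * dotInt a y := by
  simp only [dotInt, Pi.smul_apply, nsmul_eq_mul, Finset.mul_sum]
  exact Finset.sum_congr rfl fun _ _ => by push_cast; ring

theorem Dat.Fix.dual_mem (h : D.Fix) (j : Fin 12) : D.dF j ∈ leechLattice := leechCheck_mem (h.dual_ok j)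

theorem Dat.Fix.coord_add (h : D.Fix) {x y : Zv} (hx : x ∈ leechLattice) (hy : y ∈ leechLattice) :
    D.coordF (x + y) = D.coordF x + D.coordF y := funext fun j => by
  show ((dotInt (x + y) (D.dF j) / 8 : ℤ) : ZMod 2) = _
  rw [dot_add_l, Int.add_ediv_of_dvd_left (leech_dot hx (h.dual_mem j)), Int.cast_add]
  rfl

theorem Dat.Fix.coord_cong (h : D.Fix) {x y : Zv} (hy : y ∈ leechLattice) (e : Cong2 x y) :
    D.coordF x = D.coordF y := by
  obtain ⟨w, hw, e⟩ := e
  have hx : x = y + 2 • w := by rw [← e]; abel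
  subst hx
  funext j
  show ((dotInt (y + 2 • w) (D.dF j) / 8 : ℤ) : ZMod 2) = ((dotInt y (D.dF j) / 8 : ℤ) : ZMod 2)
  obtain ⟨k, hk⟩ := leech_dot hw (h.dual_mem j)
  obtain ⟨l, hl⟩ := leech_dot hy (h.dual_mem j)
  rw [dot_add_l, dot_two, hk, hl, show 8 * l + 2 * (8 * k) = 8 * (l + 2 * k) by ring,
    Int.mul_ediv_cancel_left _ (by norm_num), Int.mul_ediv_cancel_left _ (by norm_num), Int.cast_add,
    Int.cast_mul, show ((2 : ℤ) : ZMod 2) = 0 from rfl, zero_mul, add_zero]

/-- a basis vector -/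
def Dat.Fix.bv (h : D.Fix) (j : Fin 12) : Lv := ⟨D.bF j, leechCheck_mem (h.basis_ok j)⟩

/-- a combination -/
def Dat.Fix.comb (h : D.Fix) (c : V12) : Lv := ∑ j, if c j = 1 then h.bv j else 0

theorem Dat.Fix.comb_val (h : D.Fix) (c : V12) : ((h.comb c : Lv) : Zv) = D.combF c := by
  funext q
  simp only [Dat.Fix.comb, Dat.combF, AddSubgroup.val_finsetSum, Finset.sum_apply]
  exact Finset.sum_congr rfl fun j _ => by split_ifs <;> rfl

theorem Dat.Fix.comb_zero (h : D.Fix) : h.comb 0 = 0 := by simp [Dat.Fix.comb]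

theorem Dat.Fix.comb_add_cong (h : D.Fix) (c d : V12) :
    Cong2 ((h.comb c + h.comb d : Lv) : Zv) ((h.comb (c + d) : Lv) : Zv) := by
  have hj : ∀ j, Cong2 ((((if c j = 1 then h.bv j else 0) + if d j = 1 then h.bv j else 0) : Lv) : Zv)
      (((if (c + d) j = 1 then h.bv j else 0) : Lv) : Zv) := by
    intro j
    rw [Pi.add_apply]
    rcases word_eq_one_or_zero (c j) with e | e <;> rcases word_eq_one_or_zero (d j) with e' | e' <;>
      rw [e, e'] <;>
      simp only [zero_ne_one, if_true, if_false, add_zero, zero_add, AddSubgroup.coe_add, AddSubgroup.coe_zero] <;>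
      first
        | exact Cong2.refl' _
        | (rw [show (1 : ZMod 2) + 1 = 0 from rfl, if_neg zero_ne_one]
           exact ⟨(h.bv j : Zv), (h.bv j).2, by rw [AddSubgroup.coe_zero, sub_zero, two_nsmul]⟩)
  rw [Dat.Fix.comb, Dat.Fix.comb, Dat.Fix.comb, ← Finset.sum_add_distrib, AddSubgroup.val_finsetSum,
    AddSubgroup.val_finsetSum]
  exact cong_sum _ _ fun j _ => hj j

theorem Dat.Fix.coord_zero (h : D.Fix) : D.coordF 0 = 0 := by
  funext j; simp [Dat.coordF, dotInt]

/-- coordinates as a homomorphism -/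
def Dat.Fix.coordHom (h : D.Fix) : Lv →+ V12 :=
  AddMonoidHom.mk' (fun v => D.coordF (v : Zv)) fun u v => h.coord_add u.2 v.2

theorem Dat.Fix.coord_comb (h : D.Fix) (c : V12) : D.coordF ((h.comb c : Lv) : Zv) = c := by
  show h.coordHom (h.comb c) = c
  rw [Dat.Fix.comb, map_sum]
  funext i
  rw [Finset.sum_apply, Finset.sum_eq_single i]
  · split_ifs with e
    · show D.coordF (D.bF i) i = _
      rw [h.pairing, Pi.single_eq_same, e]
    · rw [map_zero, Pi.zero_apply]
      exact ((word_eq_one_or_zero (c i)).resolve_right e).symm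
  · intro j _ hji
    split_ifs
    · show D.coordF (D.bF j) i = 0
      rw [h.pairing, Pi.single_eq_of_ne (Ne.symm hji)]
    · rw [map_zero, Pi.zero_apply]
  · simp

theorem Dat.Fix.comb_inj (h : D.Fix) {c d : V12}
    (e : Cong2 ((h.comb c : Lv) : Zv) ((h.comb d : Lv) : Zv)) : c = d := by
  rw [← h.coord_comb c, ← h.coord_comb d, h.coord_cong (h.comb d).2 e]

theorem Dat.Fix.e8_cong (h : D.Fix) : Cong2 ((e8 none : Lv) : Zv) ((h.comb base : Lv) : Zv) := by
  have hc : h.comb base = h.bv 0 := by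
    rw [Dat.Fix.comb, Finset.sum_eq_single 0 (fun j _ hj => by simp [base, hj]) (by simp)]
    simp [base]
  rw [hc]
  have := congB_sound h.base_ok
  rwa [show (fun p : GolayPt => if p = none then (8 : ℤ) else 0) = ((e8 none : Lv) : Zv) from
    funext fun p => by simp [e8, Pi.single_apply]] at this

theorem Dat.Fix.pel_bv (h : D.Fix) (j : Fin 12) : h.pel • h.bv j = h.bv j := Subtype.ext (funext fun q => by
  obtain ⟨r, rfl⟩ := D.sigma.surjective q
  rw [h.sigma_apply, h.pel_apply]
  exact (h.basis_fix j r).symm)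

theorem Dat.Fix.pel_comb (h : D.Fix) (c : V12) : h.pel • h.comb c = h.comb c := by
  let f : Lv →+ Lv := AddMonoidHom.mk' (fun u => h.pel • u) (co0_add h.pel)
  show f (h.comb c) = h.comb c
  rw [Dat.Fix.comb, map_sum]
  refine Finset.sum_congr rfl fun j _ => ?_
  split_ifs
  · exact h.pel_bv j
  · exact map_zero f

/-! ### fixed vectors -/

/-- vectors congruent to combinations -/
def Dat.Fix.span (h : D.Fix) : AddSubgroup Zv where
  carrier := {x | x ∈ leechLattice ∧ ∃ c, Cong2 x ((h.comb c : Lv) : Zv)}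
  zero_mem' := ⟨zero_mem _, 0, by rw [h.comb_zero]; exact Cong2.refl' _⟩
  add_mem' := by
    rintro x y ⟨hx, c, e⟩ ⟨hy, d, e'⟩
    refine ⟨add_mem hx hy, c + d, (cong_add e e').trans ?_⟩
    rw [← AddSubgroup.coe_add]
    exact h.comb_add_cong c d
  neg_mem' := by
    rintro x ⟨hx, c, e⟩
    exact ⟨neg_mem hx, c, (cong_neg hx).trans e⟩

theorem Dat.Fix.const (h : D.Fix) {v : Lv} (e : h.pel • v = v) (q : GolayPt) :
    (v : Zv) q = (v : Zv) (D.orep (D.orb q)) := by
  have key : ∀ (n : ℕ) (r : GolayPt), (v : Zv) (D.sx^[n] r) = (v : Zv) r := by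
    intro n
    induction n with
    | zero => intro r; rfl
    | succ n ih =>
      intro r
      rw [Function.iterate_succ_apply', ← ih r]
      conv_lhs => rw [← e]
      exact h.pel_apply v _
  conv_lhs => rw [← h.reach q]
  exact key _ _

theorem mod_two_sum {ι : Type*} (s : Finset ι) (k : ι → ℕ) (f : ι → ℤ) (hk : ∀ i ∈ s, k i % 2 = 1) :
    (∑ i ∈ s, (k i : ℤ) * f i) % 2 = (∑ i ∈ s, f i) % 2 := by
  refine Int.ModEq.sum fun i hi => ?_
  have := hk i hi
  show (k i : ℤ) * f i % 2 = f i % 2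
  rw [Int.mul_emod, show (k i : ℤ) % 2 = 1 by omega, one_mul, Int.emod_emod_of_dvd _ dvd_rfl]

theorem Dat.Fix.sum_parity (h : D.Fix) (s : Fin 12 → ℤ) : (∑ q, s (D.orb q)) % 2 = (∑ j, s j) % 2 := by
  rw [← Finset.sum_fiberwise Finset.univ D.orb]
  have e : ∀ j, ∑ q ∈ Finset.univ.filter (fun q => D.orb q = j), s (D.orb q) =
      (((Finset.univ.filter fun q => D.orb q = j).card : ℕ) : ℤ) * s j := fun j => by
    rw [Finset.sum_congr rfl (g := fun _ => s j) (fun q hq => by rw [(Finset.mem_filter.1 hq).2]),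
      Finset.sum_const, nsmul_eq_mul]
  simp only [e]
  exact mod_two_sum _ _ _ fun j _ => h.size j

theorem Dat.Fix.quad_span (h : D.Fix) (s : Fin 12 → ℤ) (hs : (2 : ℤ) ∣ ∑ j, s j) :
    (fun q => 4 * s (D.orb q)) ∈ h.span := by
  obtain ⟨k, hk⟩ := hs
  have hq : ∀ j, (fun q => 4 * quadVec j (D.orb q)) ∈ h.span := fun j =>
    ⟨leechCheck_mem (h.quad_ok j).1, _, by rw [h.comb_val]; exact congB_sound (h.quad_ok j).2⟩
  let t : Fin 12 → ℤ := fun j => if (j : ℕ) = 11 then s 11 - k else s j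
  have e : (fun q => 4 * s (D.orb q)) = ∑ j, t j • (fun q => 4 * quadVec j (D.orb q) : Zv) := by
    funext q
    rw [Finset.sum_apply]
    simp only [Pi.smul_apply, smul_eq_mul]
    rw [Fin.sum_univ_castSucc] at hk ⊢
    have hlast : (Fin.last 11 : Fin 12) = 11 := rfl
    have ht : ∀ i : Fin 11, t i.castSucc = s i.castSucc := fun i => by simp [t, i.2.ne]
    have hq0 : ∀ (i : Fin 11) (o : Fin 12), quadVec i.castSucc o = if o = i.castSucc ∨ (o : ℕ) = 11 then 1 else 0 :=
      fun i o => by simp [quadVec, i.2.ne]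
    have hq1 : ∀ o : Fin 12, quadVec (Fin.last 11) o = if o = Fin.last 11 then 2 else 0 := fun o => by simp [quadVec]
    have htl : t (Fin.last 11) = s (Fin.last 11) - k := by simp [t, hlast]
    simp only [ht, hq0, hq1, htl]
    generalize D.orb q = o
    induction o using Fin.lastCases with
    | last =>
      simp only [Fin.val_last, or_true, if_true, mul_one, ← Finset.sum_mul]
      omega
    | cast i =>
      rw [if_neg (Fin.castSucc_lt_last i).ne, mul_zero, mul_zero, add_zero, Finset.sum_eq_single i]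
      · simp [mul_comm]
      · intro j _ hj
        rw [if_neg, mul_zero, mul_zero]
        rintro (h | h)
        · exact hj (Fin.castSucc_injective _ h).symm
        · exact i.2.ne h
      · simp
  rw [e]
  exact sum_mem fun j _ => zsmul_mem (hq j) _

theorem Dat.Fix.mask_mem (h : D.Fix) {w : GolayPt → ZMod 2} (hw : wmask w ∈ codeMasks)
    (hinv : ∀ q, w (D.sigma q) = w q) : wmask w ∈ D.masks := by
  have hm := List.all_eq_true.1 h.mask_ok _ hw
  rw [Bool.or_eq_true, List.elem_iff] at hm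
  refine hm.resolve_left ?_
  rw [Bool.not_eq_true', Bool.not_eq_false]
  refine List.all_eq_true.2 fun i hi => beq_iff_eq.2 ?_
  have hi24 := List.mem_range.1 hi
  have htb : ∀ p : GolayPt, Nat.testBit (wmask w) (idx p) = true ↔ w p = 1 := testBit_wmask w
  rw [show D.perm.getD i 0 = idx (D.sigma (pt i)) by
    have := rep_lperm (m24ok_lok h.perm_ok) (pt i); rw [idx_pt i hi24] at this; exact this]
  conv_rhs => rw [← idx_pt i hi24]
  exact Bool.eq_iff_iff.2 (by rw [htb, htb, hinv])

theorem Dat.Fix.rsum_span (h : D.Fix) (s : ℕ) : rsum D.resid s ∈ h.span ∧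
    ∀ q, rsum D.resid s q = rsum D.resid s (D.orep (D.orb q)) := by
  suffices hh : ∀ L : List (List ℤ), (∀ l ∈ L, l ∈ D.resid) → ∀ s : ℕ, rsum L s ∈ h.span ∧
      ∀ q, rsum L s q = rsum L s (D.orep (D.orb q)) from hh _ (fun _ hl => hl) s
  intro L
  induction L with
  | nil => exact fun _ s => ⟨zero_mem h.span, fun _ => rfl⟩
  | cons v L ih =>
    intro hL s
    obtain ⟨h1, h2⟩ := ih (fun l hl => hL l (List.mem_cons_of_mem _ hl)) (s / 2)
    have hok := List.all_eq_true.1 h.resid_ok v (hL v List.mem_cons_self)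
    simp only [Bool.and_eq_true, decide_eq_true_eq] at hok
    obtain ⟨⟨hmem, hec⟩, hcg⟩ := hok
    by_cases hb : Nat.testBit s 0 = true
    · refine ⟨?_, fun q => ?_⟩
      · rw [show rsum (v :: L) s = vecOf v + rsum L (s / 2) from funext fun q => by simp only [rsum, if_pos hb]; rfl]
        exact add_mem ⟨leechCheck_mem hmem, _, by rw [h.comb_val]; exact congB_sound hcg⟩ h1
      · simp only [rsum, if_pos hb, ← h2 q, ← hec q]
    · refine ⟨?_, fun q => ?_⟩
      · rw [show rsum (v :: L) s = rsum L (s / 2) from funext fun q => by simp only [rsum, if_neg hb, zero_add]]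
        exact h1
      · simp only [rsum, if_neg hb, ← h2 q]

theorem Dat.Fix.fixed_vector (h : D.Fix) {v : Lv} (e : h.pel • v = v) : (v : Zv) ∈ h.span := by
  obtain ⟨m, hm, hsum, hdig⟩ := mem_leech.1 v.2
  set t : Fin 12 → ℤ := fun j => (v : Zv) (D.orep j) with ht
  have hconst := h.const e
  have hmk : wmask (digit (v : Zv)) ∈ D.masks := by
    refine h.mask_mem (mem_code.1 hdig) fun q => ?_
    rw [h.sigma_apply]
    show ((_ : ℤ) : ZMod 2) = _
    rw [hconst (D.sx q), h.orb_sx, ← hconst q]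
    rfl
  obtain ⟨i, hi, hie⟩ := List.getElem_of_mem hmk
  have hres := of_decide_eq_true (List.all_eq_true.1 (List.all_eq_true.1 h.resid_complete (m % 2).toNat
    (List.mem_range.2 (by omega))) i (List.mem_range.2 hi))
  rw [List.getD_eq_getElem _ _ hi, hie] at hres
  have hbit : ∀ j : Fin 12, (if Nat.testBit (wmask (digit (v : Zv))) (idx (D.orep j)) then (1 : ℤ) else 0) =
      t j / 2 % 2 := fun j => by
    by_cases hb : Nat.testBit (wmask (digit (v : Zv))) (idx (D.orep j)) = true
    · rw [if_pos hb]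
      have h1 := (testBit_wmask _ _).1 hb
      simp only [digit] at h1
      have h2 := (ZMod.intCast_eq_intCast_iff' (t j / 2) 1 2).1 (by simpa using h1)
      omega
    · rw [if_neg hb]
      have h1 := mt (testBit_wmask _ _).2 hb
      rcases Int.emod_two_eq_zero_or_one (t j / 2) with a | a
      · omega
      · refine absurd ?_ h1
        simp only [digit]
        have h2 := (ZMod.intCast_eq_intCast_iff' (t j / 2) 1 2).2 (by omega)
        simpa using h2
  set x : Zv := rsum D.resid (i + D.masks.length * (m % 2).toNat) with hx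
  obtain ⟨hw, hec⟩ := h.rsum_span (i + D.masks.length * (m % 2).toNat)
  rw [← hx] at hw hec
  have hdiv : ∀ j, ∃ k : ℤ, t j - x (D.orep j) = 4 * k := fun j => by
    refine ⟨(t j - x (D.orep j)) / 4, ?_⟩
    have h1 : x (D.orep j) % 4 = ((m % 2).toNat : ℤ) + 2 * (t j / 2 % 2) := by rw [← hbit]; exact hres j
    have h2 : t j % 2 = m % 2 := hm (D.orep j)
    omega
  choose s hs using hdiv
  have hsub : (v : Zv) - x = fun q => 4 * s (D.orb q) := by
    funext q
    rw [Pi.sub_apply, hconst q, hec q]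
    exact hs _
  have hmem2 : (v : Zv) - x ∈ leechLattice := sub_mem v.2 hw.1
  obtain ⟨m2, hm2, hsum2, -⟩ := mem_leech.1 hmem2
  rw [hsub] at hm2 hsum2
  have hpar := hm2 none
  have hsp := h.sum_parity s
  simp only at hpar hsum2
  rw [← Finset.mul_sum] at hsum2
  have : (v : Zv) = x + fun q => 4 * s (D.orb q) := by rw [← hsub]; abel
  rw [this]
  refine add_mem hw (h.quad_span s ?_)
  omega

theorem Dat.Fix.fixed_class (h : D.Fix) {v : Lv} (e : Cong2 ((h.pel • v : Lv) : Zv) (v : Zv)) :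
    Cong2 (v : Zv) ((h.comb (D.coordF (v : Zv)) : Lv) : Zv) := by
  have hp : ∀ n : ℕ, Cong2 ((h.pel ^ n • v : Lv) : Zv) (v : Zv) := by
    intro n
    induction n with
    | zero => rw [pow_zero, one_smul]; exact Cong2.refl' _
    | succ n ih => rw [pow_succ', mul_smul]; exact (cong_smul h.pel ih).trans e
  let y : Lv := ∑ i ∈ Finset.range D.p, h.pel ^ i • v
  have hy : h.pel • y = y := by
    let f : Lv →+ Lv := AddMonoidHom.mk' (fun u => h.pel • u) (co0_add h.pel)
    show f y = y
    rw [map_sum]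
    show ∑ i ∈ Finset.range D.p, h.pel • h.pel ^ i • v = y
    simp only [← mul_smul, ← pow_succ']
    have e1 := Finset.sum_range_succ' (fun i => h.pel ^ i • v) D.p
    rw [Finset.sum_range_succ, h.pel_pow, pow_zero] at e1
    exact (add_right_cancel e1).symm
  obtain ⟨-, c, hc⟩ := h.fixed_vector hy
  obtain ⟨k, hk⟩ : ∃ k, D.p = 2 * k + 1 := ⟨D.p / 2, by have := h.odd; omega⟩
  have hvy : Cong2 (v : Zv) (y : Zv) := by
    refine cong_symm ?_
    have h7 : Cong2 (y : Zv) ((∑ _i ∈ Finset.range D.p, v : Lv) : Zv) := by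
      rw [AddSubgroup.val_finsetSum, AddSubgroup.val_finsetSum]
      exact cong_sum _ _ fun i _ => hp i
    refine h7.trans ⟨(k • v : Lv), (k • v : Lv).2, ?_⟩
    rw [Finset.sum_const, Finset.card_range, AddSubgroup.coe_nsmul, AddSubgroup.coe_nsmul, hk]
    funext q
    simp only [Pi.sub_apply, Pi.smul_apply, smul_eq_mul, nsmul_eq_mul, Pi.mul_apply, Pi.natCast_apply]
    push_cast
    ring
  have hvc := hvy.trans hc
  rwa [h.coord_cong (h.comb c).2 hvc, h.coord_comb]

end Cfsg.Agent.Spor.CoBig
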