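import Cfsg.Agent.Lib.Spor.CoBig.Rep

/-!
The centraliser of the image of the element acts on the classes, with kernel generated by the element.
-/

set_option autoImplicit false

namespace Cfsg.Agent.Spor.CoBig

open Cfsg Cfsg.Agent.Spor.MonsterFusion
open Co1Seven (congB congB_sound cong_symm cong_add cong_sum cong_neg cong_smul co0_neg units_ext pr)
open scoped Pointwise

local notation "Zv" => GolayPt → ℤ
set_option quotPrecheck false in
local notation "Lv" => ↥leechLattice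
local notation "V12" => Fin 12 → ZMod 2

variable {D : Dat}

theorem Dat.Ok.gel_exists (O : D.Ok) {k : ℕ} (hk : k < D.gens.length) :
    ∃ g : ↥Co0, (∀ i : GolayPt, ((g • e8 i : Lv) : Zv) = D.mat k i) ∧
      (∀ j : Fin 12, D.coordF ((g • O.fix.bv j : Lv) : Zv) = D.img k j) ∧
      g * O.fix.pel = O.fix.pel * g := by
  have h := O.chk.words k hk
  simp only [Bool.and_eq_true, List.all_eq_true, List.mem_range, beq_iff_eq] at h
  obtain ⟨x, hx⟩ := exists_xi
  obtain ⟨g, -, hg⟩ := word_elem ⊤ (fun _ _ => Subgroup.mem_top _) (Subgroup.mem_top x) hx (D.gens.getD k [])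
    (List.all_eq_true.2 h.1)
  have hmat : ∀ i : GolayPt, ((g • e8 i : Lv) : Zv) = D.mat k i := fun i => by
    obtain ⟨ht, he⟩ := h.2 (idx i) ((idx_lt i).trans (by norm_num))
    have := (trace_sound _ _ ht).2
    rw [he, if_pos (idx_lt i), Co1Seven.vecOf_unit] at this
    rw [hg]; exact this
  refine ⟨g, hmat, fun j => ?_, units_ext fun i => ?_⟩
  · obtain ⟨ht, he⟩ := h.2 (24 + j) (by omega)
    have := (trace_sound _ _ ht).2
    rw [he, if_neg (by omega), Nat.add_sub_cancel_left] at this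
    rw [hg]
    exact congrArg D.coordF this
  · rw [mul_smul, mul_smul, O.fix.pel_e8]
    refine Subtype.ext (funext fun q => ?_)
    obtain ⟨r, rfl⟩ := D.sigma.surjective q
    rw [O.fix.sigma_apply, O.fix.pel_apply, hmat, hmat]
    exact O.chk.comm k hk i r

/-- a generator -/
noncomputable def Dat.Ok.gel (O : D.Ok) (k : Fin D.gens.length) : O.C0 :=
  ⟨(O.gel_exists k.2).choose,
    Subgroup.mem_centralizer_singleton_iff.2 (O.gel_exists k.2).choose_spec.2.2⟩

theorem Dat.Ok.gel_lin (O : D.Ok) (k : Fin D.gens.length) (c : V12) :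
    O.act (O.gel k) c = ∑ j, if c j = 1 then D.img k j else 0 := by
  let f : V12 →+ V12 := AddMonoidHom.mk' (O.act (O.gel k)) (O.act_add _)
  have e : c = ∑ j, (if c j = 1 then Pi.single j 1 else 0 : V12) := by
    funext i
    rw [Finset.sum_apply, Finset.sum_eq_single i]
    · rcases word_eq_one_or_zero (c i) with h | h <;> simp [h]
    · intro j _ hj
      split_ifs
      · exact Pi.single_eq_of_ne hj.symm _
      · rfl
    · simp
  show f c = _
  conv_lhs => rw [e]
  rw [map_sum]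
  refine Finset.sum_congr rfl fun j _ => ?_
  split_ifs
  · exact (O.act_bv _ j).trans ((O.gel_exists k.2).choose_spec.2.1 j)
  · exact map_zero f

/-- the permutation of classes of a generator -/
noncomputable def Dat.Ok.gperm (O : D.Ok) (k : Fin D.gens.length) : Equiv.Perm V12 := O.rho (O.gel k)

theorem Dat.Ok.gperm_dec (O : D.Ok) (k : Fin D.gens.length) (n : ℕ) :
    O.gperm k (dec n) = dec (appN (D.col k) n) := by
  rw [Dat.Ok.gperm, O.rho_apply, O.gel_lin, dec_appN _ _ (O.chk.cols_len k k.2)]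
  refine Finset.sum_congr rfl fun j _ => ?_
  rw [show D.img k j = dec ((D.col k).getD j 0) from funext fun i => O.chk.cols_ok k k.2 j i]

/-- numbers of classes with short representatives -/
def Dat.shortNum (D : Dat) : List ℕ := D.short.map Prod.fst

/-- a class with a short fixed representative -/
def Dat.Ok.Short (O : D.Ok) (n : ℕ) : Prop :=
  ∃ v : Lv, O.fix.pel • v = v ∧ sqNorm (v : Zv) ≤ 48 ∧ D.coordF (v : Zv) = dec n

theorem testBit_bits : ∀ (l : List ℕ) (x : ℕ), Nat.testBit (l.foldr (fun a m => 2 ^ a ||| m) 0) x = true ↔ x ∈ l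
  | [], x => by simp
  | a :: l, x => by
    rw [List.foldr_cons, Nat.testBit_or, Bool.or_eq_true, testBit_bits l x, Nat.testBit_two_pow, List.mem_cons,
      decide_eq_true_eq]
    exact or_congr ⟨Eq.symm, Eq.symm⟩ Iff.rfl

theorem Dat.Ok.short_seed (O : D.Ok) {n : ℕ} (hn : n ∈ D.shortNum) : O.Short n := by
  obtain ⟨⟨n', w⟩, hw, rfl⟩ := List.mem_map.1 hn
  have hok := List.all_eq_true.1 O.chk.short_ok _ hw
  simp only [Bool.and_eq_true, decide_eq_true_eq] at hok
  obtain ⟨⟨hmem, hle⟩, hcg⟩ := hok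
  refine ⟨⟨D.cvec w, leechCheck_mem hmem⟩, Subtype.ext (funext fun q => ?_), hle, funext hcg⟩
  obtain ⟨r, rfl⟩ := D.sigma.surjective q
  rw [O.fix.sigma_apply, O.fix.pel_apply]
  show D.cvec w r = D.cvec w (D.sx r)
  simp only [Dat.cvec, O.fix.orb_sx]

theorem Dat.Ok.short_step (O : D.Ok) {p k : ℕ} (hp : O.Short p) (hk : k < D.gens.length) :
    O.Short (appN (D.col k) p) := by
  obtain ⟨v, hv, hn, hc⟩ := hp
  set g : O.C0 := O.gel ⟨k, hk⟩
  refine ⟨(g : ↥Co0) • v, ?_, ?_, ?_⟩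
  · rw [← mul_smul, ← O.C0_comm g, mul_smul, hv]
  · rw [show sqNorm (((g : ↥Co0) • v : Lv) : Zv) = sqNorm (v : Zv) from (g : ↥Co0).2.2 _]
    exact hn
  · rw [← O.gperm_dec ⟨k, hk⟩ p, Dat.Ok.gperm, O.rho_apply, Dat.Ok.act, ← hc]
    refine O.fix.coord_cong ((g : ↥Co0) • O.fix.comb (D.coordF (v : Zv)) : Lv).2 (cong_smul _ ?_)
    exact O.fix.fixed_class (by rw [hv]; exact Cong2.refl' _)

theorem Dat.Ok.short_all (O : D.Ok) : ∃ T : Finset ℕ, T.card = D.short.length + D.tree.length ∧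
    0 ∉ T ∧ (∀ n ∈ T, n < 4096) ∧ ∀ n ∈ T, O.Short n := by
  classical
  obtain ⟨hpos, hnd⟩ := incr_spec O.chk.short_incr
  suffices h : ∀ (l : List (ℕ × ℕ × ℕ)) (m : ℕ) (S : Finset ℕ), (∀ x, Nat.testBit m x = true ↔ x ∈ S) →
      (∀ n ∈ S, 0 < n ∧ n < 4096) → (∀ n ∈ S, O.Short n) → treeOK D.cols D.gens.length m l = true →
      ∃ T : Finset ℕ, T.card = S.card + l.length ∧ (∀ n ∈ T, 0 < n ∧ n < 4096) ∧ ∀ n ∈ T, O.Short n by
    obtain ⟨T, hT, hlt, hs⟩ := h D.tree _ D.shortNum.toFinset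
      (fun x => (testBit_bits _ x).trans List.mem_toFinset.symm)
      (fun n hn => by
        refine ⟨hpos n (List.mem_toFinset.1 hn), ?_⟩
        obtain ⟨w, hw, rfl⟩ := List.mem_map.1 (List.mem_toFinset.1 hn)
        exact of_decide_eq_true (by simpa using List.all_eq_true.1 O.chk.short_lt w hw))
      (fun n hn => O.short_seed (List.mem_toFinset.1 hn)) O.chk.short_tree
    refine ⟨T, by rw [hT, List.toFinset_card_of_nodup (l := D.shortNum) hnd, Dat.shortNum, List.length_map], ?_,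
      fun n hn => (hlt n hn).2, hs⟩
    exact fun h0 => (hlt 0 h0).1.false
  intro l
  induction l with
  | nil => exact fun m S _ h1 h2 _ => ⟨S, rfl, h1, h2⟩
  | cons a l ih =>
    obtain ⟨n, p, k⟩ := a
    intro m S hm h1 h2 h
    simp only [treeOK, Bool.and_eq_true, Nat.blt_eq, Bool.not_eq_true', Nat.beq_eq] at h
    obtain ⟨⟨⟨⟨⟨⟨hk, hp⟩, hnew⟩, hn0⟩, hn⟩, he⟩, hrest⟩ := h
    have hnS : n ∉ S := fun hh => by rw [(hm n).2 hh] at hnew; exact Bool.noConfusion hnew
    have hsn : O.Short n := he ▸ O.short_step (h2 p ((hm p).1 hp)) hk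
    obtain ⟨T, hT, hT1, hT2⟩ := ih (2 ^ n ||| m) (insert n S) (fun x => by
      rw [Nat.testBit_or, Bool.or_eq_true, hm, Nat.testBit_two_pow, decide_eq_true_eq, Finset.mem_insert]
      exact or_congr ⟨Eq.symm, Eq.symm⟩ Iff.rfl)
      (fun x hx => (Finset.mem_insert.1 hx).elim (fun e => e ▸ ⟨hn0, hn⟩) (h1 x))
      (fun x hx => (Finset.mem_insert.1 hx).elim (fun e => e ▸ hsn) (h2 x)) hrest
    refine ⟨T, ?_, hT1, hT2⟩
    rw [hT, Finset.card_insert_of_notMem hnS, List.length_cons]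
    omega

theorem Dat.Ok.not_short (O : D.Ok) (g : O.C0) {n : ℕ} (hn : dec n = O.act g base) : n ≠ 0 ∧ ¬ O.Short n := by
  set v : Lv := (g : ↥Co0) • e8 none with hv
  have hvn : sqNorm (v : Zv) = 64 := ((g : ↥Co0).2.2 _).trans (e8_norm none)
  have hc : Cong2 (v : Zv) ((O.fix.comb (O.act g base) : Lv) : Zv) :=
    (cong_smul _ O.fix.e8_cong).trans (O.image_cong g base)
  rw [← hn] at hc
  refine ⟨?_, ?_⟩
  · rintro rfl
    rw [dec_zero, O.fix.comb_zero, AddSubgroup.coe_zero] at hc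
    obtain ⟨z, hz, e⟩ := hc
    rw [sub_zero] at e
    rw [e, ← natCast_zsmul, sqNorm_smul] at hvn
    by_cases hz0 : z = 0
    · rw [hz0] at hvn; simp [sqNorm] at hvn
    · have := (leech_norm hz).2 hz0
      norm_num at hvn
      omega
  · rintro ⟨u, hu, hle, hcg⟩
    have hcw := O.fix.fixed_class (v := u) (by rw [hu]; exact Cong2.refl' _)
    rw [hcg] at hcw
    have h := congruent_short (y := (u : Zv)) v.2
      (fun e => by rw [e] at hvn; omega)
      (fun e => by rw [e, sqNorm_neg] at hvn; omega) hvn.le (by omega)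
      (hc.trans (cong_symm hcw))
    omega

theorem Dat.Ok.card_orbit (O : D.Ok) :
    Nat.card ↥(Set.range fun g : O.C0 => O.act g base) ≤ D.orbMax := by
  classical
  obtain ⟨T, hT, h0, hlt, hsh⟩ := O.short_all
  set S : Finset ℕ := Finset.range 4096 \ insert 0 T with hS
  have hsub : insert 0 T ⊆ Finset.range 4096 := by
    intro x hx
    rcases Finset.mem_insert.1 hx with rfl | hx
    · simp
    · exact Finset.mem_range.2 (hlt x hx)
  have hcard : S.card ≤ D.orbMax := by
    have := O.chk.short_len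
    rw [hS, Finset.card_sdiff_of_subset hsub, Finset.card_insert_of_notMem h0, hT, Finset.card_range]
    omega
  refine le_trans ?_ hcard
  rw [← Fintype.card_coe, ← Nat.card_eq_fintype_card]
  let f : ↥S → ↥(Set.range fun g : O.C0 => O.act g base) := fun n =>
    if h : dec n.1 ∈ Set.range (fun g : O.C0 => O.act g base) then ⟨dec n.1, h⟩ else ⟨O.act 1 base, ⟨1, rfl⟩⟩
  refine Nat.card_le_card_of_surjective f ?_
  rintro ⟨_, g, rfl⟩
  obtain ⟨n, hn, hd⟩ := dec_surj (O.act g base)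
  obtain ⟨hn0, hns⟩ := O.not_short g hd
  refine ⟨⟨n, ?_⟩, ?_⟩
  · simp [hS, hn, hn0]
    exact fun h => hns (hsh n h)
  · refine (dif_pos (show dec n ∈ Set.range _ from ⟨g, hd.symm⟩)).trans (Subtype.ext hd)

theorem Dat.Ok.card_C0 (O : D.Ok) : Nat.card O.C0 ≤ D.orbMax * (D.masks.length * D.centMax) := by
  classical
  haveI := co0_finite
  rw [Subgroup.card_eq_card_quotient_mul_card_subgroup O.stab]
  refine Nat.mul_le_mul ?_ O.card_stab
  refine le_trans ?_ O.card_orbit
  refine Nat.card_le_card_of_injective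
    (fun q : O.C0 ⧸ O.stab => (⟨O.act q.out base, q.out, rfl⟩ :
      ↥(Set.range fun g : O.C0 => O.act g base))) fun a b h => ?_
  have h1 : O.act a.out base = O.act b.out base := congrArg Subtype.val h
  rw [← a.out_eq', ← b.out_eq']
  refine QuotientGroup.eq.2 ?_
  show O.act _ base = base
  rw [O.act_mul, ← h1, ← O.act_mul, inv_mul_cancel, O.act_one]

/-- the group of permutations of classes -/
noncomputable def Dat.Ok.K (O : D.Ok) : Subgroup (Equiv.Perm V12) := Subgroup.closure (Set.range O.gperm)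

theorem Dat.Ok.K_le_range (O : D.Ok) : O.K ≤ O.rho.range :=
  (Subgroup.closure_le _).2 (by rintro _ ⟨k, rfl⟩; exact ⟨_, rfl⟩)

theorem Dat.Ok.perm_add (O : D.Ok) {π : Equiv.Perm V12} (hπ : π ∈ O.K) (c d : V12) : π (c + d) = π c + π d := by
  obtain ⟨g, rfl⟩ := O.K_le_range hπ
  exact O.act_add g c d

/-- enough permutations of classes -/
def Dat.Ok.Big (O : D.Ok) : Prop := D.orbMax * (D.masks.length * D.centMax) ≤ 2 * D.p * Nat.card O.K

theorem Dat.Ok.neg_act (O : D.Ok) {m : ↥Co0} (hm : ∀ v : Lv, ((m • v : Lv) : Zv) = -(v : Zv)) (c : V12) :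
    Cong2 ((m • O.fix.comb c : Lv) : Zv) ((O.fix.comb c : Lv) : Zv) := by
  rw [hm]; exact cong_neg (O.fix.comb c).2

theorem lift_rel {p : ℕ} (hp : p % 2 = 1) {x y : ↥Co0} (h : pr x = pr y) (hx : x ^ p = 1) (hy : y ^ p = 1) :
    x = y := by
  obtain ⟨k, rfl⟩ : ∃ k, p = 2 * k + 1 := ⟨p / 2, by omega⟩
  obtain ⟨m, hm⟩ := negation_exists
  have hm2 : m * m = 1 := co0_ext fun v => by rw [mul_smul, hm, hm, neg_neg, one_smul]
  have hc : x⁻¹ * y ∈ Subgroup.center ↥Co0 := QuotientGroup.eq.1 h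
  rcases center_cases hm hc with e | e
  · exact inv_mul_eq_one.1 e
  · exfalso
    have e2 : y = x * m := by rw [← e, mul_inv_cancel_left]
    have hcm : Commute x m := Subgroup.mem_center_iff.1 (negation_mem_center hm) x
    rw [e2, hcm.mul_pow, hx, one_mul, pow_succ, pow_mul, sq, hm2, one_pow, one_mul] at hy
    have := congrArg (fun v : Lv => (v : Zv) none) (show m • e8 none = e8 none by rw [hy, one_smul])
    simp only [hm, Pi.neg_apply] at this
    simp [e8] at this

theorem pow_two_inj {m : ↥Co0} (hm : ∀ v : Lv, ((m • v : Lv) : Zv) = -(v : Zv)) :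
    ∀ i i' : Fin 2, m ^ (i : ℕ) = m ^ (i' : ℕ) → i = i' := by
  have hne : m ≠ 1 := fun hm1 => by
    have := congrArg (fun v : Lv => (v : Zv) none) (show m • e8 none = e8 none by rw [hm1, one_smul])
    simp only [hm, Pi.neg_apply] at this
    simp [e8] at this
  simp [Fin.forall_fin_two, hne, hne.symm]

theorem Dat.Ok.ker_big (O : D.Ok) : 2 * D.p ≤ Nat.card O.rho.ker := by
  classical
  haveI := O.C0_finite
  haveI : Fact D.p.Prime := ⟨O.fix.prime⟩
  obtain ⟨m, hm⟩ := negation_exists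
  have hmc := negation_mem_center hm
  have hord : orderOf O.fix.pel = D.p := orderOf_eq_prime O.fix.pel_pow O.fix.pel_ne
  let x : Fin 2 × Fin D.p → ↥Co0 := fun a => m ^ (a.1 : ℕ) * O.fix.pel ^ (a.2 : ℕ)
  have hxc : ∀ a, x a ∈ O.C0 := fun a => mul_mem
    (pow_mem (Subgroup.center_le_centralizer _ hmc) _) (pow_mem (Subgroup.mem_centralizer_singleton_iff.2 rfl) _)
  have hmem : ∀ a, (⟨x a, hxc a⟩ : O.C0) ∈ O.rho.ker := fun a => Equiv.ext fun c => by
    rw [O.rho_apply]
    have hp : ∀ i : ℕ, O.fix.pel ^ i • O.fix.comb c = O.fix.comb c := by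
      intro i
      induction i with
      | zero => rw [pow_zero, one_smul]
      | succ i ih => rw [pow_succ', mul_smul, ih, O.fix.pel_comb]
    show D.coordF ((x a • O.fix.comb c : Lv) : Zv) = c
    rw [mul_smul, hp]
    obtain ⟨i, j⟩ := a
    fin_cases i
    · simp [O.fix.coord_comb]
    · change D.coordF ((m ^ 1 • O.fix.comb c : Lv) : Zv) = c
      rw [pow_one, O.fix.coord_cong (O.fix.comb c).2 (O.neg_act hm c), O.fix.coord_comb]
  refine le_trans (by rw [Nat.card_prod, Nat.card_fin, Nat.card_fin])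
    (Nat.card_le_card_of_injective (fun a => (⟨⟨x a, hxc a⟩, hmem a⟩ : O.rho.ker)) fun a b e => ?_)
  have e' : x a = x b := congrArg (fun g : O.rho.ker => ((g : O.C0) : ↥Co0)) e
  have hm2 : m * m = 1 := co0_ext fun v => by rw [mul_smul, hm, hm, neg_neg, one_smul]
  have hpr : pr (O.fix.pel ^ (a.2 : ℕ)) = pr (O.fix.pel ^ (b.2 : ℕ)) := by
    have hk : ∀ i : ℕ, pr (m ^ i) = 1 := fun i => by
      rw [map_pow, show pr m = 1 from (QuotientGroup.eq_one_iff m).2 hmc, one_pow]
    have := congrArg pr e'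
    simpa [x, hk] using this
  have h2 := lift_rel O.fix.odd hpr
    (by rw [← pow_mul, mul_comm, pow_mul, O.fix.pel_pow, one_pow])
    (by rw [← pow_mul, mul_comm, pow_mul, O.fix.pel_pow, one_pow])
  have h3 : (a.2 : ℕ) = b.2 := pow_injOn_Iio_orderOf (by simp [hord]) (by simp [hord]) h2
  simp only [x, h3, mul_left_inj] at e'
  exact Prod.ext (pow_two_inj hm _ _ e') (Fin.ext h3)

theorem Dat.Ok.card_range (O : D.Ok) :
    2 * D.p * Nat.card O.rho.range ≤ D.orbMax * (D.masks.length * D.centMax) := by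
  haveI := O.C0_finite
  refine le_trans ?_ O.card_C0
  rw [Subgroup.card_eq_card_quotient_mul_card_subgroup O.rho.ker,
    Nat.card_congr (QuotientGroup.quotientKerEquivRange O.rho).toEquiv, mul_comm (2 * D.p)]
  exact Nat.mul_le_mul_left _ O.ker_big

theorem Dat.Ok.range_eq (O : D.Ok) (hB : O.Big) : O.rho.range = O.K :=
  (Subgroup.eq_of_le_of_card_ge O.K_le_range (Nat.le_of_mul_le_mul_left (O.card_range.trans hB)
    (by have := O.fix.prime.pos; omega))).symm

/-- the action on classes -/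
noncomputable def Dat.Ok.nu (O : D.Ok) (hB : O.Big) : O.C0 →* O.K :=
  O.rho.codRestrict O.K fun g => by rw [← O.range_eq hB]; exact ⟨g, rfl⟩

theorem Dat.Ok.nu_surj (O : D.Ok) (hB : O.Big) : Function.Surjective (O.nu hB) := fun τ => by
  obtain ⟨g, hg⟩ := O.K_le_range τ.2
  exact ⟨g, Subtype.ext hg⟩

theorem Dat.Ok.nu_ker (O : D.Ok) (hB : O.Big) : Nat.card (O.nu hB).ker ≤ 2 * D.p := by
  haveI := O.C0_finite
  have h := O.card_C0.trans hB
  rw [Subgroup.card_eq_card_quotient_mul_card_subgroup (O.nu hB).ker,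
    Nat.card_congr (QuotientGroup.quotientKerEquivOfSurjective _ (O.nu_surj hB)).toEquiv, mul_comm] at h
  exact Nat.le_of_mul_le_mul_right h Nat.card_pos

/-! ### the image in the first Conway group -/

/-- the element -/
noncomputable def Dat.Ok.beta (O : D.Ok) : Cfsg.Spor.Co1 := pr O.fix.pel

theorem Dat.Ok.orderOf_beta (O : D.Ok) : orderOf O.beta = D.p := by
  haveI : Fact D.p.Prime := ⟨O.fix.prime⟩
  refine orderOf_eq_prime (by rw [Dat.Ok.beta, ← map_pow, O.fix.pel_pow, map_one]) fun h => ?_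
  exact O.fix.pel_ne (lift_rel O.fix.odd (x := O.fix.pel) (y := 1) (by rw [map_one]; exact h) O.fix.pel_pow
    (one_pow _))

theorem Dat.Ok.exists_lift (O : D.Ok) (a : Subgroup.centralizer ({O.beta} : Set Cfsg.Spor.Co1)) :
    ∃ g : O.C0, pr (g : ↥Co0) = a := by
  obtain ⟨g, hg⟩ := QuotientGroup.mk'_surjective (Subgroup.center ↥Co0) (a : Cfsg.Spor.Co1)
  have hg' : pr g = (a : Cfsg.Spor.Co1) := hg
  have h1 : pr (g * O.fix.pel * g⁻¹) = pr O.fix.pel := by
    rw [map_mul, map_mul, map_inv, hg', ← Dat.Ok.beta, Subgroup.mem_centralizer_singleton_iff.1 a.2,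
      mul_inv_cancel_right]
  have e := lift_rel O.fix.odd h1 (by rw [conj_pow, O.fix.pel_pow, mul_one, mul_inv_cancel]) O.fix.pel_pow
  exact ⟨⟨g, Subgroup.mem_centralizer_singleton_iff.2 (mul_inv_eq_iff_eq_mul.1 e)⟩, hg'⟩

theorem Dat.Ok.nu_lift (O : D.Ok) (hB : O.Big) {g g' : O.C0} (e : pr (g : ↥Co0) = pr (g' : ↥Co0)) :
    O.nu hB g = O.nu hB g' := by
  refine Subtype.ext (Equiv.ext fun c => ?_)
  show O.rho g c = O.rho g' c
  obtain ⟨m, hm⟩ := negation_exists
  have hc : (g : ↥Co0)⁻¹ * g' ∈ Subgroup.center ↥Co0 := QuotientGroup.eq.1 e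
  rcases center_cases hm hc with h | h
  · rw [show g = g' from Subtype.ext (inv_mul_eq_one.1 h)]
  · have e2 : (g' : ↥Co0) = g * m := by rw [← h, mul_inv_cancel_left]
    rw [O.rho_apply, O.rho_apply]
    refine (O.fix.coord_cong ((g : ↥Co0) • O.fix.comb c : Lv).2 ?_).symm
    rw [e2, mul_smul]
    exact cong_smul _ (O.neg_act hm c)

/-- the action on objects of the centraliser -/
noncomputable def Dat.Ok.mu (O : D.Ok) (hB : O.Big) : ↥(Subgroup.centralizer ({O.beta} : Set Cfsg.Spor.Co1)) →* O.K :=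
  MonoidHom.mk' (fun a => O.nu hB (O.exists_lift a).choose) fun a b => by
    rw [← map_mul]
    refine O.nu_lift hB ?_
    exact (O.exists_lift (a * b)).choose_spec.trans (by
      rw [Subgroup.coe_mul, Subgroup.coe_mul, map_mul, (O.exists_lift a).choose_spec, (O.exists_lift b).choose_spec])

theorem Dat.Ok.mu_eq (O : D.Ok) (hB : O.Big) {a : Subgroup.centralizer ({O.beta} : Set Cfsg.Spor.Co1)}
    {g : O.C0} (h : pr (g : ↥Co0) = a) : O.mu hB a = O.nu hB g :=
  O.nu_lift hB ((O.exists_lift a).choose_spec.trans h.symm)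

theorem Dat.Ok.mu_surj (O : D.Ok) (hB : O.Big) : Function.Surjective (O.mu hB) := fun τ => by
  obtain ⟨g, rfl⟩ := O.nu_surj hB τ
  refine ⟨⟨pr (g : ↥Co0), Subgroup.mem_centralizer_singleton_iff.2 ?_⟩, O.mu_eq hB rfl⟩
  rw [Dat.Ok.beta, ← map_mul, ← map_mul, O.C0_comm g]

theorem Dat.Ok.mu_trivial (O : D.Ok) (hB : O.Big) {a : Subgroup.centralizer ({O.beta} : Set Cfsg.Spor.Co1)}
    {g : ↥Co0} (hg : pr g = a) (h : ∀ c, Cong2 ((g • O.fix.comb c : Lv) : Zv) ((O.fix.comb c : Lv) : Zv)) :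
    O.mu hB a = 1 := by
  obtain ⟨g', hg'⟩ := O.exists_lift a
  rw [O.mu_eq hB hg']
  refine Subtype.ext ?_
  show O.rho g' = 1
  refine Equiv.ext fun c => ?_
  obtain ⟨m, hm⟩ := negation_exists
  have hc : g⁻¹ * (g' : ↥Co0) ∈ Subgroup.center ↥Co0 := QuotientGroup.eq.1 (hg.trans hg'.symm)
  rw [O.rho_apply, Equiv.Perm.one_apply]
  refine (O.fix.coord_cong (O.fix.comb c).2 ?_).trans (O.fix.coord_comb c)
  rcases center_cases hm hc with e | e
  · rw [← inv_mul_eq_one.1 e]; exact h c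
  · rw [show (g' : ↥Co0) = g * m by rw [← e, mul_inv_cancel_left], mul_smul]
    exact (cong_smul _ (O.neg_act hm c)).trans (h c)

theorem Dat.Ok.beta_mem (O : D.Ok) : O.beta ∈ Subgroup.centralizer ({O.beta} : Set Cfsg.Spor.Co1) :=
  Subgroup.mem_centralizer_singleton_iff.2 rfl

theorem Dat.Ok.mu_ker (O : D.Ok) (hB : O.Big) (a : Subgroup.centralizer ({O.beta} : Set Cfsg.Spor.Co1)) :
    O.mu hB a = 1 ↔ (a : Cfsg.Spor.Co1) ∈ Subgroup.zpowers O.beta := by
  classical
  haveI := co0_finite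
  have hb : (⟨O.beta, O.beta_mem⟩ : Subgroup.centralizer ({O.beta} : Set Cfsg.Spor.Co1)) ∈ (O.mu hB).ker :=
    O.mu_trivial hB (g := O.fix.pel) rfl fun c => by rw [O.fix.pel_comb]; exact Cong2.refl' _
  obtain ⟨m, hm⟩ := negation_exists
  have hmc := negation_mem_center hm
  choose l hl using O.exists_lift
  let f : (O.mu hB).ker × Fin 2 → (O.nu hB).ker := fun x =>
    ⟨l x.1 * ⟨m ^ (x.2 : ℕ), pow_mem (Subgroup.center_le_centralizer _ hmc) _⟩, by
      rw [MonoidHom.mem_ker, ← O.mu_eq hB (a := (x.1 : Subgroup.centralizer ({O.beta} : Set Cfsg.Spor.Co1))) ?_]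
      · exact x.1.2
      · rw [Subgroup.coe_mul, map_mul, hl, map_pow, show pr m = 1 from (QuotientGroup.eq_one_iff m).2 hmc,
          one_pow, mul_one]⟩
  have hf : Function.Injective f := by
    intro x y e
    have e' : (l x.1 : ↥Co0) * m ^ (x.2 : ℕ) = l y.1 * m ^ (y.2 : ℕ) :=
      congrArg (fun g : (O.nu hB).ker => ((g : O.C0) : ↥Co0)) e
    have h1 : x.1 = y.1 := by
      have := congrArg pr e'
      rw [map_mul, map_mul, hl, hl, map_pow, map_pow, show pr m = 1 from (QuotientGroup.eq_one_iff m).2 hmc,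
        one_pow, one_pow, mul_one, mul_one] at this
      exact Subtype.ext (Subtype.ext this)
    rw [h1, mul_right_inj] at e'
    exact Prod.ext h1 (pow_two_inj hm _ _ e')
  have h2 := (Nat.card_le_card_of_injective f hf).trans (O.nu_ker hB)
  rw [Nat.card_prod, Nat.card_fin] at h2
  have h3 : Subgroup.zpowers (⟨O.beta, O.beta_mem⟩ : Subgroup.centralizer ({O.beta} : Set Cfsg.Spor.Co1)) =
      (O.mu hB).ker := by
    refine Subgroup.eq_of_le_of_card_ge (Subgroup.zpowers_le.2 hb) ?_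
    rw [Nat.card_zpowers, ← Subgroup.orderOf_coe, O.orderOf_beta]
    omega
  rw [← MonoidHom.mem_ker, ← h3, Subgroup.mem_zpowers_iff, Subgroup.mem_zpowers_iff]
  exact exists_congr fun k => by rw [Subtype.ext_iff, SubgroupClass.coe_zpow]

theorem Dat.Ok.beta_stab (O : D.Ok) : O.beta ∈ classStab1 (e8 none) := by
  refine ⟨O.fix.pel, ?_, rfl⟩
  rw [SetLike.mem_coe, mem_classStab]
  refine ((cong_smul _ O.fix.e8_cong).trans ?_).trans (cong_symm O.fix.e8_cong)
  rw [O.fix.pel_comb]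
  exact Cong2.refl' _

end Cfsg.Agent.Spor.CoBig
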