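import Cfsg.Agent.Lib.Spor.CoBig.Defs

/-!
Classes as numbers, and linear maps on numbers.
-/

set_option autoImplicit false

namespace Cfsg.Agent.Spor.CoBig

local notation "V12" => Fin 12 → ZMod 2

theorem dec_zero : dec 0 = 0 := by funext j; simp [dec]

theorem dec_xor (a b : ℕ) : dec (a ^^^ b) = dec a + dec b := by
  funext j
  simp only [dec, Pi.add_apply, Nat.testBit_xor]
  cases Nat.testBit a j <;> cases Nat.testBit b j <;> decide

theorem dec_inj {a b : ℕ} (ha : a < 4096) (hb : b < 4096) (h : dec a = dec b) : a = b := by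
  refine Nat.eq_of_testBit_eq fun i => ?_
  by_cases hi : i < 12
  · have := congrFun h ⟨i, hi⟩
    simp only [dec] at this
    cases h1 : Nat.testBit a i <;> cases h2 : Nat.testBit b i <;> simp [h1, h2] at this ⊢
  · have hp : (4096 : ℕ) ≤ 2 ^ i := le_trans (by norm_num) (Nat.pow_le_pow_right (by norm_num) (not_lt.1 hi))
    rw [Nat.testBit_lt_two_pow (ha.trans_le hp), Nat.testBit_lt_two_pow (hb.trans_le hp)]

theorem dec_surj (c : V12) : ∃ n, n < 4096 ∧ dec n = c := by
  have h : Function.Bijective fun n : Fin 4096 => dec n.1 :=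
    (Fintype.bijective_iff_injective_and_card _).2
      ⟨fun a b e => Fin.ext (dec_inj a.2 b.2 e), by simp [Fintype.card_fun, ZMod.card]⟩
  obtain ⟨n, hn⟩ := h.2 c
  exact ⟨n, n.2, hn⟩

theorem dec_appN_aux : ∀ (L : List ℕ) (n : ℕ),
    dec (appN L n) = ∑ i ∈ Finset.range L.length, if Nat.testBit n i then dec (L.getD i 0) else 0
  | [], n => by simp [appN, dec_zero]
  | c :: L, n => by
    rw [List.length_cons, Finset.sum_range_succ', appN]
    have ih := dec_appN_aux L (n / 2)
    have e : ∀ i, Nat.testBit n (i + 1) = Nat.testBit (n / 2) i := fun i => Nat.testBit_succ n i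
    simp only [e, List.getD_cons_succ, List.getD_cons_zero, ← ih]
    cases Nat.testBit n 0 <;> simp [dec_xor, add_comm]

theorem dec_appN (L : List ℕ) (n : ℕ) (hL : L.length = 12) :
    dec (appN L n) = ∑ j : Fin 12, if dec n j = 1 then dec (L.getD j 0) else 0 := by
  rw [dec_appN_aux, hL, ← Fin.sum_univ_eq_sum_range]
  refine Finset.sum_congr rfl fun j _ => ?_
  by_cases hb : Nat.testBit n j = true <;> simp [dec, hb]

end Cfsg.Agent.Spor.CoBig
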