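import Cfsg.Agent.Lib.Spor.CoBig.Main

/-!
Families of sets of classes permuted by the group of permutations of classes.
-/

set_option autoImplicit false

namespace Cfsg.Agent.Spor.CoBig

open Cfsg
open scoped Pointwise

local notation "V12" => Fin 12 → ZMod 2

variable {D : Dat} {n : ℕ}

/-- a generator, as an element of the group -/
noncomputable def Dat.Ok.gk (O : D.Ok) (k : ℕ) : O.K :=
  if h : k < D.gens.length then ⟨O.gperm ⟨k, h⟩, Subgroup.subset_closure ⟨⟨k, h⟩, rfl⟩⟩ else 1

/-- value of a word -/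
noncomputable def Dat.Ok.wprod (O : D.Ok) (w : List ℕ) : O.K := (w.map O.gk).prod

/-- a word on numbers -/
def Dat.appW (D : Dat) (w : List ℕ) (x : ℕ) : ℕ := w.foldr (fun k y => appN (D.col k) y) x

/-- letters of a word -/
def Dat.wOK (D : Dat) (w : List ℕ) : Bool := w.all fun k => Nat.blt k D.gens.length

theorem Dat.Ok.wprod_append (O : D.Ok) (u v : List ℕ) : O.wprod (u ++ v) = O.wprod u * O.wprod v := by
  rw [Dat.Ok.wprod, List.map_append, List.prod_append]; rfl

theorem Dat.Ok.wprod_single (O : D.Ok) (k : ℕ) : O.wprod [k] = O.gk k := List.prod_singleton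

theorem Dat.Ok.wprod_dec (O : D.Ok) : ∀ {w : List ℕ}, D.wOK w = true → ∀ x : ℕ,
    (O.wprod w : Equiv.Perm V12) (dec x) = dec (D.appW w x)
  | [], _, _ => rfl
  | k :: w, h, x => by
    simp only [Dat.wOK, List.all_cons, Bool.and_eq_true, Nat.blt_eq] at h
    show (O.gk k * O.wprod w : O.K).1 (dec x) = _
    rw [Subgroup.coe_mul, Equiv.Perm.mul_apply, O.wprod_dec h.2 x, Dat.Ok.gk, dif_pos h.1]
    exact O.gperm_dec ⟨k, h.1⟩ _

theorem dec_single (j : Fin 12) : dec (2 ^ (j : ℕ)) = Pi.single j 1 := by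
  funext i
  by_cases h : i = j
  · subst h; simp [dec, Nat.testBit_two_pow_self]
  · simp [dec, Nat.testBit_two_pow, h, Fin.val_inj, Ne.symm h]

theorem Dat.Ok.K_ext (O : D.Ok) {π π' : O.K}
    (h : ∀ j : Fin 12, (π : Equiv.Perm V12) (dec (2 ^ (j : ℕ))) = (π' : Equiv.Perm V12) (dec (2 ^ (j : ℕ)))) :
    π = π' := by
  refine Subtype.ext (Equiv.ext fun c => ?_)
  let f : V12 →+ V12 := AddMonoidHom.mk' (π : Equiv.Perm V12) (O.perm_add π.2)
  let f' : V12 →+ V12 := AddMonoidHom.mk' (π' : Equiv.Perm V12) (O.perm_add π'.2)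
  show f c = f' c
  have e : c = ∑ j, (if c j = 1 then Pi.single j 1 else 0 : V12) := by
    funext i
    rw [Finset.sum_apply, Finset.sum_eq_single i]
    · rcases word_eq_one_or_zero (c i) with h | h <;> simp [h]
    · intro j _ hj
      split_ifs
      · exact Pi.single_eq_of_ne hj.symm _
      · rfl
    · simp
  rw [e, map_sum, map_sum]
  refine Finset.sum_congr rfl fun j _ => ?_
  split_ifs
  · rw [← dec_single]; exact h j
  · rw [map_zero, map_zero]

theorem Dat.Ok.wprod_eq (O : D.Ok) {u v : List ℕ} (hu : D.wOK u = true) (hv : D.wOK v = true)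
    (h : ((List.range 12).all fun j => D.appW u (2 ^ j) == D.appW v (2 ^ j)) = true) : O.wprod u = O.wprod v :=
  O.K_ext fun j => by
    rw [O.wprod_dec hu, O.wprod_dec hv, beq_iff_eq.1 (List.all_eq_true.1 h j (List.mem_range.2 j.2))]

theorem Dat.Ok.wprod_ne (O : D.Ok) {w : List ℕ} (hw : D.wOK w = true) {x : ℕ} (hx : x < 4096)
    (hy : D.appW w x < 4096) (h : D.appW w x ≠ x) : O.wprod w ≠ 1 := fun e => by
  have h1 := O.wprod_dec hw x
  rw [e, Subgroup.coe_one, Equiv.Perm.one_apply] at h1
  exact h (dec_inj hy hx h1.symm)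

/-- a family of sets of classes of the same size -/
structure Objs (n : ℕ) where
  /-- the sets, as increasing lists of numbers -/
  set : Fin n → List ℕ
  /-- their size -/
  size : ℕ
  ok : ∀ i, incr 0 (set i) = true ∧ (set i).length = size ∧ ((set i).all fun x => Nat.blt x 4096) = true
  inj : Function.Injective set

/-- a set of classes -/
def Objs.fin (B : Objs n) (i : Fin n) : Finset V12 := (B.set i).toFinset.image dec

theorem Objs.lt (B : Objs n) {i : Fin n} {x : ℕ} (hx : x ∈ B.set i) : x < 4096 :=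
  by simpa using List.all_eq_true.1 (B.ok i).2.2 x hx

theorem Objs.card_fin (B : Objs n) (i : Fin n) : (B.fin i).card = B.size := by
  rw [Objs.fin, Finset.card_image_of_injOn, List.toFinset_card_of_nodup (incr_spec (B.ok i).1).2, (B.ok i).2.1]
  intro a ha b hb e
  exact dec_inj (B.lt (List.mem_toFinset.1 ha)) (B.lt (List.mem_toFinset.1 hb)) e

theorem incr_sorted : ∀ {a : ℕ} {l : List ℕ}, incr a l = true → l.Pairwise (· < ·) := by
  intro a l
  induction l generalizing a with
  | nil => simp
  | cons b l ih =>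
    intro h
    simp only [incr, Bool.and_eq_true] at h
    exact List.pairwise_cons.2 ⟨(incr_spec h.2).1, ih h.2⟩

theorem Objs.fin_inj (B : Objs n) : Function.Injective B.fin := fun i j h => B.inj (by
  have hs : (B.set i).toFinset = (B.set j).toFinset := by
    ext x
    have key : ∀ i j : Fin n, B.fin i = B.fin j → x ∈ B.set i → x ∈ B.set j := fun i j h hx => by
      have : dec x ∈ B.fin j := h ▸ Finset.mem_image_of_mem dec (List.mem_toFinset.2 hx)
      obtain ⟨y, hy, e⟩ := Finset.mem_image.1 this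
      rwa [← dec_inj (B.lt (List.mem_toFinset.1 hy)) (B.lt hx) e, ← List.mem_toFinset]
    rw [List.mem_toFinset, List.mem_toFinset]
    exact ⟨key i j h, key j i h.symm⟩
  have hp := List.perm_of_nodup_nodup_toFinset_eq (incr_spec (B.ok i).1).2 (incr_spec (B.ok j).1).2 hs
  exact hp.eq_of_pairwise' ((incr_sorted (B.ok i).1).imp le_of_lt) ((incr_sorted (B.ok j).1).imp le_of_lt))

/-- the permutations stabilising a family -/
def Objs.Stab (B : Objs n) : Subgroup (Equiv.Perm V12) where
  carrier := {π | ∀ i, ∃ j, (B.fin i).map π.toEmbedding = B.fin j}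
  one_mem' := fun i => ⟨i, by simp [Equiv.Perm.one_def]⟩
  mul_mem' := fun {π π'} h h' i => by
    obtain ⟨j, hj⟩ := h' i
    obtain ⟨k, hk⟩ := h j
    refine ⟨k, ?_⟩
    rw [← hk, ← hj, Finset.map_map]
    rfl
  inv_mem' := fun {π} h => by
    choose f hf using h
    have hfi : Function.Injective f := fun a b e => B.fin_inj (Finset.map_injective π.toEmbedding (by rw [hf, hf, e]))
    intro i
    obtain ⟨j, rfl⟩ := (Finite.injective_iff_surjective.1 hfi) i
    refine ⟨j, ?_⟩
    rw [← hf j, Finset.map_map]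
    ext x
    simp

/-- image of a set under a permutation in the stabiliser -/
noncomputable def Objs.img (B : Objs n) (π : B.Stab) (i : Fin n) : Fin n := (π.2 i).choose

theorem Objs.img_spec (B : Objs n) (π : B.Stab) (i : Fin n) :
    (B.fin i).map (π : Equiv.Perm V12).toEmbedding = B.fin (B.img π i) := (π.2 i).choose_spec

theorem Objs.img_eq (B : Objs n) (π : B.Stab) {i j : Fin n}
    (h : (B.fin i).map (π : Equiv.Perm V12).toEmbedding = B.fin j) : B.img π i = j :=
  B.fin_inj ((B.img_spec π i).symm.trans h)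

theorem Objs.img_mul (B : Objs n) (π π' : B.Stab) (i : Fin n) : B.img (π * π') i = B.img π (B.img π' i) := by
  refine B.img_eq _ ?_
  rw [← B.img_spec π, ← B.img_spec π', Finset.map_map]
  rfl

theorem Objs.img_one (B : Objs n) (i : Fin n) : B.img 1 i = i := B.img_eq _ (by simp [Equiv.Perm.one_def])

/-- the action on the sets -/
noncomputable def Objs.theta (B : Objs n) : B.Stab →* Equiv.Perm (Fin n) :=
  MonoidHom.mk' (fun π =>
    { toFun := B.img π
      invFun := B.img π⁻¹
      left_inv := fun i => by rw [← B.img_mul, inv_mul_cancel, B.img_one]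
      right_inv := fun i => by rw [← B.img_mul, mul_inv_cancel, B.img_one] })
    fun π π' => Equiv.ext fun i => B.img_mul π π' i

/-- a generator maps the sets as a list says -/
def Dat.moves (D : Dat) (B : Objs n) (gp : List (List ℕ)) (k : ℕ) (i : Fin n) : Bool :=
  match (gp.getD k []).getD i n with
  | j => if h : j < n then
      let m := (B.set ⟨j, h⟩).foldr (fun a m => 2 ^ a ||| m) 0
      (B.set i).all fun x => Nat.testBit m (appN (D.col k) x)
    else false

theorem testBit_foldr (x : ℕ) : ∀ l : List ℕ, Nat.testBit (l.foldr (fun a m => 2 ^ a ||| m) 0) x = true ↔ x ∈ l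
  | [] => by simp
  | a :: l => by
    rw [List.foldr_cons, Nat.testBit_or, Bool.or_eq_true, testBit_foldr x l, Nat.testBit_two_pow, List.mem_cons,
      decide_eq_true_eq]
    exact or_congr ⟨Eq.symm, Eq.symm⟩ Iff.rfl

theorem Dat.Ok.moves_spec (O : D.Ok) (B : Objs n) (gp : List (List ℕ)) {k : ℕ} (hk : k < D.gens.length) {i : Fin n}
    (h : D.moves B gp k i = true) : ∃ j : Fin n, (j : ℕ) = (gp.getD k []).getD i n ∧
      (B.fin i).map (O.gk k : Equiv.Perm V12).toEmbedding = B.fin j := by
  simp only [Dat.moves] at h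
  split at h
  · next hj =>
    refine ⟨⟨_, hj⟩, rfl, Finset.eq_of_subset_of_card_le ?_ (by rw [Finset.card_map, B.card_fin, B.card_fin])⟩
    intro c hc
    obtain ⟨d, hd, rfl⟩ := Finset.mem_map.1 hc
    obtain ⟨x, hx, rfl⟩ := Finset.mem_image.1 hd
    refine Finset.mem_image.2 ⟨appN (D.col k) x, List.mem_toFinset.2 ((testBit_foldr _ _).1
      (List.all_eq_true.1 h x (List.mem_toFinset.1 hx))), ?_⟩
    show _ = (O.gk k : Equiv.Perm V12) (dec x)
    rw [Dat.Ok.gk, dif_pos hk]
    exact (O.gperm_dec ⟨k, hk⟩ x).symm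
  · exact absurd h (by simp)

/-- all generators map the sets as the lists say -/
def Dat.Moves (D : Dat) (B : Objs n) (gp : List (List ℕ)) : Prop :=
  ∀ k, k < D.gens.length → ∀ i : Fin n, D.moves B gp k i = true

theorem Dat.Ok.K_le_stab (O : D.Ok) {B : Objs n} {gp : List (List ℕ)} (h : D.Moves B gp) : O.K ≤ B.Stab := by
  refine (Subgroup.closure_le _).2 ?_
  rintro _ ⟨k, rfl⟩ i
  obtain ⟨j, -, hj⟩ := O.moves_spec B gp k.2 (h k k.2 i)
  refine ⟨j, ?_⟩
  rw [Dat.Ok.gk, dif_pos k.2] at hj
  exact hj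

/-- the action of the group on the sets -/
noncomputable def Dat.Ok.theta (O : D.Ok) {B : Objs n} {gp : List (List ℕ)} (h : D.Moves B gp) :
    O.K →* Equiv.Perm (Fin n) := B.theta.comp (Subgroup.inclusion (O.K_le_stab h))

theorem Dat.Ok.theta_gk (O : D.Ok) {B : Objs n} {gp : List (List ℕ)} (h : D.Moves B gp) {k : ℕ}
    (hk : k < D.gens.length) (i : Fin n) : (O.theta h (O.gk k) i : ℕ) = (gp.getD k []).getD i n := by
  obtain ⟨j, hj, e⟩ := O.moves_spec B gp hk (h k hk i)
  rw [show O.theta h (O.gk k) i = j from B.img_eq _ e, hj]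

theorem Dat.Ok.theta_word (O : D.Ok) {B : Objs n} {gp : List (List ℕ)} (h : D.Moves B gp) :
    ∀ {w : List ℕ}, D.wOK w = true → ∀ i : Fin n,
      (O.theta h (O.wprod w) i : ℕ) = w.foldr (fun k x => (gp.getD k []).getD x n) i
  | [], _, i => by
    show (O.theta h 1 i : ℕ) = _
    rw [map_one]; rfl
  | k :: w, hw, i => by
    simp only [Dat.wOK, List.all_cons, Bool.and_eq_true, Nat.blt_eq] at hw
    show (O.theta h (O.gk k * O.wprod w) i : ℕ) = _
    rw [map_mul, Equiv.Perm.mul_apply, O.theta_gk h hw.1, O.theta_word h hw.2 i]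
    rfl

end Cfsg.Agent.Spor.CoBig
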