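import Cfsg.Agent.Lib.Spor.CoBig.Fixed
import Cfsg.Agent.Lib.Spor.CoBig.Numbers
import Cfsg.Agent.Lib.Spor.MonsterSplit
import Cfsg.Agent.Lib.Spor.Co1Seven

/-!
The centraliser of the element acts on the fixed classes; a bound on its order.
-/

set_option autoImplicit false

namespace Cfsg.Agent.Spor.CoBig

open Cfsg Cfsg.Agent.Spor.MonsterFusion
open Co1Seven (congB congB_sound cong_symm cong_add cong_sum cong_neg cong_smul co0_neg units_ext)
open scoped Pointwise

local notation "Zv" => GolayPt → ℤ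
set_option quotPrecheck false in
local notation "Lv" => ↥leechLattice
local notation "V12" => Fin 12 → ZMod 2

/-- the conditions together -/
structure Dat.Ok (D : Dat) : Prop where
  fix : D.Fix
  chk : D.Chk
  cent : Nat.card (Subgroup.centralizer ({(⟨D.sigma, fix.mem⟩ : M24)} : Set M24)) ≤ D.centMax

variable {D : Dat}

/-- the centraliser in the lattice group -/
noncomputable def Dat.Ok.C0 (O : D.Ok) : Subgroup ↥Co0 := Subgroup.centralizer ({O.fix.pel} : Set ↥Co0)

theorem Dat.Ok.C0_comm (O : D.Ok) (g : O.C0) : (g : ↥Co0) * O.fix.pel = O.fix.pel * g :=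
  Subgroup.mem_centralizer_singleton_iff.1 g.2

theorem Dat.Ok.image_cong (O : D.Ok) (g : O.C0) (c : V12) :
    Cong2 (((g : ↥Co0) • O.fix.comb c : Lv) : Zv)
      ((O.fix.comb (D.coordF (((g : ↥Co0) • O.fix.comb c : Lv) : Zv)) : Lv) : Zv) := by
  refine O.fix.fixed_class ?_
  rw [← mul_smul, ← O.C0_comm g, mul_smul, O.fix.pel_comb]
  exact Cong2.refl' _

/-- action on classes -/
noncomputable def Dat.Ok.act (O : D.Ok) (g : O.C0) (c : V12) : V12 :=
  D.coordF (((g : ↥Co0) • O.fix.comb c : Lv) : Zv)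

theorem Dat.Ok.act_mul (O : D.Ok) (g g' : O.C0) (c : V12) : O.act (g * g') c = O.act g (O.act g' c) := by
  refine (O.fix.coord_cong ((g : ↥Co0) • O.fix.comb (O.act g' c) : Lv).2 ?_)
  rw [Subgroup.coe_mul, mul_smul]
  exact cong_smul _ (O.image_cong g' c)

theorem Dat.Ok.act_one (O : D.Ok) (c : V12) : O.act 1 c = c := by
  show D.coordF (((1 : ↥Co0) • O.fix.comb c : Lv) : Zv) = c
  rw [one_smul, O.fix.coord_comb]

theorem Dat.Ok.act_add (O : D.Ok) (g : O.C0) (c d : V12) : O.act g (c + d) = O.act g c + O.act g d := by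
  show D.coordF _ = D.coordF _ + D.coordF _
  rw [← O.fix.coord_add ((g : ↥Co0) • O.fix.comb c : Lv).2 ((g : ↥Co0) • O.fix.comb d : Lv).2]
  refine O.fix.coord_cong (add_mem ((g : ↥Co0) • O.fix.comb c : Lv).2 ((g : ↥Co0) • O.fix.comb d : Lv).2) ?_
  rw [← AddSubgroup.coe_add, ← co0_add]
  exact cong_smul _ (cong_symm (O.fix.comb_add_cong c d))

theorem Dat.Ok.act_bv (O : D.Ok) (g : O.C0) (j : Fin 12) :
    O.act g (Pi.single j 1) = D.coordF (((g : ↥Co0) • O.fix.bv j : Lv) : Zv) := by
  have hc : O.fix.comb (Pi.single j 1) = O.fix.bv j := by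
    rw [Dat.Fix.comb, Finset.sum_eq_single j (fun i _ hi => by simp [hi]) (by simp)]
    simp
  show D.coordF _ = _
  rw [hc]

/-- the representation on classes -/
noncomputable def Dat.Ok.rho (O : D.Ok) : O.C0 →* Equiv.Perm V12 :=
  MonoidHom.mk' (fun g =>
    { toFun := O.act g
      invFun := O.act g⁻¹
      left_inv := fun c => by rw [← O.act_mul, inv_mul_cancel, O.act_one]
      right_inv := fun c => by rw [← O.act_mul, mul_inv_cancel, O.act_one] })
    fun g g' => Equiv.ext fun c => O.act_mul g g' c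

theorem Dat.Ok.rho_apply (O : D.Ok) (g : O.C0) (c : V12) : O.rho g c = O.act g c := rfl

/-! ### the bound -/

theorem Dat.Ok.mono_form (O : D.Ok) (g : O.C0) (hg : O.act g base = base) :
    ∃ x : Subgroup.centralizer ({(⟨D.sigma, O.fix.mem⟩ : M24)} : Set M24),
      ∃ w : GolayPt → ZMod 2, wmask w ∈ D.masks ∧
        ∀ v : Lv, (((g : ↥Co0) • v : Lv) : Zv) = sgn w (prm ((x : M24) : Equiv.Perm GolayPt) (v : Zv)) := by
  have hmono : (g : ↥Co0) ∈ monoSub := by
    rw [← classStab_e8, mem_classStab]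
    refine ((cong_smul _ O.fix.e8_cong).trans (O.image_cong g base)).trans ?_
    rw [show D.coordF _ = base from hg]
    exact cong_symm O.fix.e8_cong
  obtain ⟨σ, hσ, w, hw, e⟩ := std_form (mem_monoSub.1 hmono)
  have z : ∀ v : Lv, ((O.fix.pel • v : Lv) : Zv) = sgn 0 (prm D.sigma (v : Zv)) := fun v => by
    rw [O.fix.pel_spec]; funext p; simp [sgn]
  obtain ⟨h1, h2⟩ := mono_unique (σ := σ * D.sigma) (τ := D.sigma * σ) (w := w + actW σ 0)
    (w' := 0 + actW D.sigma w) fun v => by
      rw [← mono_mul e z v, ← mono_mul z e v, O.C0_comm g]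
  rw [zero_add, show actW σ 0 = 0 from rfl, add_zero] at h2
  refine ⟨⟨⟨σ, hσ⟩, Subgroup.mem_centralizer_singleton_iff.2 (Subtype.ext h1)⟩, w, ?_, e⟩
  refine O.fix.mask_mem (mem_code.1 hw) fun q => ?_
  conv_lhs => rw [h2]
  show w (D.sigma.symm (D.sigma q)) = _
  rw [Equiv.symm_apply_apply]

/-- the stabiliser of the base class -/
noncomputable def Dat.Ok.stab (O : D.Ok) : Subgroup O.C0 where
  carrier := {g | O.act g base = base}
  one_mem' := O.act_one base
  mul_mem' := fun {a b} ha hb => by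
    show O.act (a * b) base = base
    rw [O.act_mul, show O.act b base = base from hb]; exact ha
  inv_mem' := fun {a} ha => by
    show O.act a⁻¹ base = base
    conv_lhs => rw [← show O.act a base = base from ha]
    rw [← O.act_mul, inv_mul_cancel, O.act_one]

theorem wmask_inj {w w' : GolayPt → ZMod 2} (h : wmask w = wmask w') : w = w' := by
  funext p
  have htb : ∀ u : GolayPt → ZMod 2, Nat.testBit (wmask u) (idx p) = true ↔ u p = 1 := by
    intro u
    rw [wmask, testBit_mask_idx, mem_support₂]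
    rcases word_eq_one_or_zero (u p) with a | a <;> simp [a]
  have h1 : w p = 1 ↔ w' p = 1 := by rw [← htb w, ← htb w', h]
  rcases word_eq_one_or_zero (w p) with a | a <;> rcases word_eq_one_or_zero (w' p) with b | b <;>
    simp [a, b] at h1 ⊢

theorem Dat.Ok.card_stab (O : D.Ok) : Nat.card O.stab ≤ D.masks.length * D.centMax := by
  classical
  choose x w hw e using fun g : O.stab => O.mono_form g.1 g.2
  let f : O.stab → ↥D.masks.toFinset ×
      Subgroup.centralizer ({(⟨D.sigma, O.fix.mem⟩ : M24)} : Set M24) :=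
    fun g => (⟨wmask (w g), List.mem_toFinset.2 (hw g)⟩, x g)
  have hf : Function.Injective f := by
    intro a b h
    have h1 : w a = w b := wmask_inj (congrArg (fun y => (y.1 : ℕ)) h)
    have h2 : x a = x b := congrArg Prod.snd h
    refine Subtype.ext (Subtype.ext (co0_ext fun v => ?_))
    rw [e, e, h1, h2]
  refine (Nat.card_le_card_of_injective f hf).trans ?_
  rw [Nat.card_prod, Nat.card_eq_fintype_card, Fintype.card_coe]
  exact Nat.mul_le_mul (List.toFinset_card_le _) O.cent

theorem Dat.Ok.C0_finite (O : D.Ok) : Finite O.C0 := by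
  haveI := co0_finite
  infer_instance

theorem incr_spec : ∀ {a : ℕ} {l : List ℕ}, incr a l = true → (∀ x ∈ l, a < x) ∧ l.Nodup := by
  intro a l
  induction l generalizing a with
  | nil => simp
  | cons b l ih =>
    intro h
    simp only [incr, Bool.and_eq_true, Nat.blt_eq] at h
    obtain ⟨h1, h2⟩ := ih h.2
    refine ⟨fun x hx => ?_, List.nodup_cons.2 ⟨fun hb => (h1 b hb).false, h2⟩⟩
    rcases List.mem_cons.1 hx with rfl | hx
    · exact h.1
    · exact h.1.trans (h1 x hx)

end Cfsg.Agent.Spor.CoBig
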