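import Cfsg.Agent.Lib.Spor.CoBig.TriData

/-!
Data for the centraliser of the permutation of order three with six fixed points.
-/

set_option autoImplicit false
set_option maxRecDepth 100000

namespace Cfsg.Agent.Spor.CoBig

/-- the conjugating permutation -/
def triNorm : List ℕ := [3, 4, 7, 10, 5, 0, 14, 13, 18, 9, 15, 16, 6, 22, 1, 23, 8, 2, 17, 11, 20, 19, 21, 12]

/-- the normalised permutation -/
def triNormed : List ℕ := [1, 2, 0, 3, 4, 5, 13, 7, 22, 18, 10, 20, 12, 15, 23, 6, 11, 14, 19, 9, 16, 8, 21, 17]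

end Cfsg.Agent.Spor.CoBig
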