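import Cfsg.Agent.Lib.Spor.CoBig.Objects
import Cfsg.Agent.Lib.Spor.CoBig.TriData
import Cfsg.Agent.Lib.Spor.CoBig.TriObjData
import Cfsg.Agent.Lib.Local.FS.McLUnitaryData

/-!
Checks on the objects and the words.
-/

set_option autoImplicit false
set_option maxRecDepth 100000
set_option maxHeartbeats 2000000

namespace Cfsg.Agent.Spor.CoBig

theorem tri_obj_ok : ∀ i : Fin 280, incr 0 (triObjs.getD i []) = true ∧ (triObjs.getD i []).length = 54 ∧
    ((triObjs.getD i []).all fun x => Nat.blt x 4096) = true := by decide +kernel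

theorem tri_obj_nodup : triObjs.Nodup ∧ triObjs.length = 280 := by decide +kernel

/-- the family -/
def triB : Objs 280 where
  set i := triObjs.getD i []
  size := 54
  ok := tri_obj_ok
  inj i j h := by
    have hi : (i : ℕ) < triObjs.length := tri_obj_nodup.2.symm ▸ i.2
    have hj : (j : ℕ) < triObjs.length := tri_obj_nodup.2.symm ▸ j.2
    simp only [List.getD_eq_getElem _ _ hi, List.getD_eq_getElem _ _ hj] at h
    exact Fin.ext (tri_obj_nodup.1.getElem_inj_iff.1 h)

theorem tri_gens_len : triDat.gens.length = 3 := by decide +kernel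

theorem tri_moves0 : ∀ i : Fin 280, triDat.moves triB triGp 0 i = true := by decide +kernel

theorem tri_moves1 : ∀ i : Fin 280, triDat.moves triB triGp 1 i = true := by decide +kernel

theorem tri_moves2 : ∀ i : Fin 280, triDat.moves triB triGp 2 i = true := by decide +kernel

theorem tri_moves : triDat.Moves triB triGp := by
  intro k hk
  rw [tri_gens_len] at hk
  interval_cases k
  · exact tri_moves0
  · exact tri_moves1
  · exact tri_moves2

/-- equality of two words on the units -/
def triEq (u v : List ℕ) : Bool :=
  triDat.wOK u && triDat.wOK v && (List.range 12).all fun j => triDat.appW u (2 ^ j) == triDat.appW v (2 ^ j)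

theorem tri_omega_ok : triDat.wOK triOmega = true ∧ triEq (triOmega ++ triOmega ++ triOmega) [] = true ∧
    triEq ([0] ++ triOmega) (triOmega ++ triOmega ++ [0]) = true ∧ triEq ([1] ++ triOmega) (triOmega ++ [1]) = true ∧
    triEq ([2] ++ triOmega) (triOmega ++ [2]) = true ∧
    (∃ j : Fin 12, triDat.appW triOmega (2 ^ (j : ℕ)) ≠ 2 ^ (j : ℕ) ∧ triDat.appW triOmega (2 ^ (j : ℕ)) < 4096) := by
  decide +kernel

theorem tri_omega_gp : ∀ i : Fin 280, triOmega.foldr (fun k x => (triGp.getD k []).getD x 280) i.val = i.val := by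
  decide +kernel

theorem tri_words_comm : ∀ s : Fin 3, triEq (triWords.getD s [] ++ triOmega) (triOmega ++ triWords.getD s []) = true := by
  decide +kernel

theorem tri_words_gp : ∀ s : Fin 3, ∀ i : Fin 280,
    (triWords.getD s []).foldr (fun k x => (triGp.getD k []).getD x 280) i.val =
      (Local.FS.McLSmall.Unitary.sigma.getD s []).getD i 0 := by
  decide +kernel

end Cfsg.Agent.Spor.CoBig
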