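import Cfsg.Agent.Lib.Spor.CoBig.TriChk
import Cfsg.Agent.Lib.Spor.CoBig.TriCent
import Cfsg.Agent.Lib.Spor.CoBig.TriObjChk
import Cfsg.Agent.Lib.Local.FS.McLUnitary
import Cfsg.Agent.S0283

/-!
The group of permutations of classes: a normal subgroup of order three in a subgroup of index two, with
quotient the four-dimensional projective unitary group over nine elements.
-/

set_option autoImplicit false
set_option maxRecDepth 100000

namespace Cfsg.Agent.Spor.CoBig

open Cfsg
open Local.FS.McLSmall.Unitary (Gx tau tau_injective tau_range_le card_Gx gx_iso sigma)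
open scoped Pointwise

theorem tri_ok : triDat.Ok := ⟨tri_fix, tri_chk, tri_cent tri_fix⟩

/-- the group of permutations of classes -/
abbrev KK : Type := ↥(Dat.Ok.K tri_ok)

/-- the scalar -/
noncomputable def omg : KK := tri_ok.wprod triOmega

theorem eq_of_triEq {u v : List ℕ} (h : triEq u v = true) : tri_ok.wprod u = tri_ok.wprod v := by
  simp only [triEq, Bool.and_eq_true] at h
  exact tri_ok.wprod_eq h.1.1 h.1.2 h.2

theorem omg_cube : omg ^ 3 = 1 := by
  rw [pow_succ, pow_succ, pow_one, omg, ← tri_ok.wprod_append, ← tri_ok.wprod_append, eq_of_triEq tri_omega_ok.2.1]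
  rfl

theorem omg_ne : omg ≠ 1 := by
  obtain ⟨hw, -, -, -, -, j, hj, hlt⟩ := tri_omega_ok
  exact tri_ok.wprod_ne hw ((Nat.pow_le_pow_right (by norm_num) (Nat.le_sub_one_of_lt j.2)).trans_lt (by norm_num)) hlt hj

theorem orderOf_omega : orderOf omg = 3 := by
  haveI : Fact (Nat.Prime 3) := ⟨Nat.prime_three⟩
  exact orderOf_eq_prime omg_cube omg_ne

theorem omg_gens : tri_ok.gk 0 * omg = omg⁻¹ * tri_ok.gk 0 ∧ tri_ok.gk 1 * omg = omg * tri_ok.gk 1 ∧
    tri_ok.gk 2 * omg = omg * tri_ok.gk 2 := by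
  obtain ⟨-, -, h0, h1, h2, -⟩ := tri_omega_ok
  have e0 := eq_of_triEq h0
  have e1 := eq_of_triEq h1
  have e2 := eq_of_triEq h2
  rw [tri_ok.wprod_append, tri_ok.wprod_append, tri_ok.wprod_append, tri_ok.wprod_single] at e0
  rw [tri_ok.wprod_append, tri_ok.wprod_append, tri_ok.wprod_single] at e1 e2
  refine ⟨?_, e1, e2⟩
  rw [show omg⁻¹ = omg * omg from inv_eq_of_mul_eq_one_right (by rw [← mul_assoc]; exact
    (show omg * omg * omg = omg ^ 3 by rw [pow_succ, pow_succ, pow_one]).trans omg_cube)]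
  exact e0

theorem omg_conj (b : KK) : b * omg * b⁻¹ = omg ∨ b * omg * b⁻¹ = omg⁻¹ := by
  suffices h : ∀ π ∈ tri_ok.K, π * (omg : Equiv.Perm (Fin 12 → ZMod 2)) * π⁻¹ = (omg : Equiv.Perm (Fin 12 → ZMod 2)) ∨
      π * (omg : Equiv.Perm (Fin 12 → ZMod 2)) * π⁻¹ = (omg : Equiv.Perm (Fin 12 → ZMod 2))⁻¹ by
    exact (h b.1 b.2).imp (fun e => Subtype.ext e) fun e => Subtype.ext e
  intro π hπ
  induction hπ using Subgroup.closure_induction with
  | mem x hx =>
    obtain ⟨⟨k, hk⟩, rfl⟩ := hx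
    have hk3 : k < 3 := tri_gens_len ▸ hk
    rw [show tri_ok.gperm ⟨k, hk⟩ = (tri_ok.gk k : Equiv.Perm (Fin 12 → ZMod 2)) by rw [Dat.Ok.gk, dif_pos hk]]
    interval_cases k
    · exact Or.inr (mul_inv_eq_iff_eq_mul.2 (congrArg Subtype.val omg_gens.1 :))
    · exact Or.inl (mul_inv_eq_iff_eq_mul.2 (congrArg Subtype.val omg_gens.2.1 :))
    · exact Or.inl (mul_inv_eq_iff_eq_mul.2 (congrArg Subtype.val omg_gens.2.2 :))
  | one => exact Or.inl (by group)
  | mul a c _ _ iha ihc =>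
    rw [show ∀ x y w : Equiv.Perm (Fin 12 → ZMod 2), x * y * w * (x * y)⁻¹ = x * (y * w * y⁻¹) * x⁻¹ from
      fun x y w => by group]
    rcases ihc with h | h <;> rw [h]
    · exact iha
    · rw [← conj_inv]
      rcases iha with h' | h' <;> rw [h']
      · exact Or.inr rfl
      · exact Or.inl (inv_inv _)
  | inv a _ iha =>
    have key : ∀ w : Equiv.Perm (Fin 12 → ZMod 2), a⁻¹ * (a * w * a⁻¹) * a⁻¹⁻¹ = w := fun w => by group
    rcases iha with h | h
    · refine Or.inl ?_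
      conv_rhs => rw [← key (omg : Equiv.Perm (Fin 12 → ZMod 2))]
      rw [h]
    · refine Or.inr ?_
      have h' := congrArg (·⁻¹) h
      simp only [inv_inv] at h'
      have h2 : a * (omg : Equiv.Perm (Fin 12 → ZMod 2))⁻¹ * a⁻¹ = (omg : Equiv.Perm (Fin 12 → ZMod 2)) := by
        conv_rhs => rw [← h']
        group
      conv_rhs => rw [← key (omg : Equiv.Perm (Fin 12 → ZMod 2))⁻¹]
      rw [h2]

/-- the subgroup of order three -/
noncomputable def Nk : Subgroup KK := Subgroup.zpowers omg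

/-- its centraliser -/
noncomputable def Mk : Subgroup KK := Subgroup.centralizer ({omg} : Set KK)

theorem card_Nk : Nat.card Nk = 3 := by rw [Nk, Nat.card_zpowers, orderOf_omega]

theorem Nk_normal : Nk.Normal := by
  refine ⟨fun x hx b => ?_⟩
  obtain ⟨k, rfl⟩ := Subgroup.mem_zpowers_iff.1 hx
  rw [← conj_zpow]
  rcases omg_conj b with h | h <;> rw [h]
  · exact Subgroup.zpow_mem_zpowers _ _
  · exact zpow_mem (inv_mem (Subgroup.mem_zpowers _)) _

theorem Nk_le : Nk ≤ Mk := Subgroup.zpowers_le.2 (Subgroup.mem_centralizer_singleton_iff.2 rfl)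

theorem mem_Mk {b : KK} : b ∈ Mk ↔ b * omg * b⁻¹ = omg := by
  rw [Mk, Subgroup.mem_centralizer_singleton_iff, mul_inv_eq_iff_eq_mul]

theorem omg_ne_inv : omg ≠ omg⁻¹ := fun h => omg_ne (by
  calc omg = omg ^ 3 * (omg * omg)⁻¹ := by group
    _ = 1 := by rw [omg_cube, show omg * omg = 1 by nth_rewrite 1 [h]; rw [inv_mul_cancel]]; group)

theorem index_Mk : Mk.index = 2 := by
  refine Subgroup.index_eq_two_iff.2 ⟨tri_ok.gk 0, fun b => ?_⟩
  have h0 : tri_ok.gk 0 * omg * (tri_ok.gk 0)⁻¹ = omg⁻¹ := mul_inv_eq_iff_eq_mul.2 omg_gens.1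
  have e : b * tri_ok.gk 0 * omg * (b * tri_ok.gk 0)⁻¹ = (b * omg * b⁻¹)⁻¹ := by
    rw [show b * tri_ok.gk 0 * omg * (b * tri_ok.gk 0)⁻¹ = b * (tri_ok.gk 0 * omg * (tri_ok.gk 0)⁻¹) * b⁻¹ by group,
      h0, conj_inv]
  simp only [mem_Mk, e]
  rcases omg_conj b with h | h <;> rw [h]
  · exact Or.inr ⟨rfl, omg_ne_inv.symm⟩
  · exact Or.inl ⟨inv_inv _, omg_ne_inv.symm⟩

theorem Mk_normal : Mk.Normal := Subgroup.normal_of_index_eq_two index_Mk

/-- the action on the objects -/
noncomputable def thetaM : ↥Mk →* Equiv.Perm (Fin 280) := (tri_ok.theta tri_moves).comp Mk.subtype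

theorem omg_theta : tri_ok.theta tri_moves omg = 1 := Equiv.ext fun i => Fin.ext (by
  rw [omg, tri_ok.theta_word tri_moves tri_omega_ok.1 i, Equiv.Perm.one_apply]
  exact tri_omega_gp i)

theorem tau_le : tau.range ≤ thetaM.range := tau_range_le _ fun s => by
  have h := tri_words_comm s
  have hw : triDat.wOK (triWords.getD s []) = true := by
    simp only [triEq, Bool.and_eq_true, Dat.wOK, List.all_append] at h
    exact h.1.1.1
  refine ⟨_, ⟨⟨tri_ok.wprod (triWords.getD s []), ?_⟩, rfl⟩, fun j => Fin.ext ?_⟩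
  · have e := eq_of_triEq h
    rw [tri_ok.wprod_append, tri_ok.wprod_append] at e
    exact Subgroup.mem_centralizer_singleton_iff.2 e
  · refine (tri_ok.theta_word tri_moves hw j).trans ((tri_words_gp s j).trans ?_)
    refine (Nat.mod_eq_of_lt ?_).symm
    exact tri_words_gp s j ▸ tri_ok.theta_word tri_moves hw j ▸ Fin.is_lt _

theorem card_tau : Nat.card tau.range = 3265920 :=
  (Nat.card_congr (MonoidHom.ofInjective tau_injective).toEquiv).symm.trans card_Gx

theorem ker_ge : Nk.subgroupOf Mk ≤ thetaM.ker := by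
  intro x hx
  obtain ⟨k, hk⟩ := Subgroup.mem_zpowers_iff.1 (Subgroup.mem_subgroupOf.1 hx)
  show tri_ok.theta tri_moves (x : KK) = 1
  rw [← hk, map_zpow, omg_theta, one_zpow]

theorem card_Nk' : Nat.card (Nk.subgroupOf Mk) = 3 :=
  (Nat.card_congr (Subgroup.subgroupOfEquivOfLe Nk_le).toEquiv).trans card_Nk

theorem tri_big : tri_ok.Big ∧ thetaM.ker = Nk.subgroupOf Mk ∧ thetaM.range = tau.range := by
  haveI : Finite KK := inferInstance
  have hsp : Nat.card thetaM.range * Nat.card thetaM.ker = Nat.card Mk := by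
    rw [Subgroup.card_eq_card_quotient_mul_card_subgroup thetaM.ker,
      Nat.card_congr (QuotientGroup.quotientKerEquivRange _).toEquiv]
  have hMK : Nat.card KK = 2 * Nat.card Mk := by
    have h := Subgroup.card_mul_index Mk
    rw [index_Mk] at h
    omega
  have h1 := Subgroup.card_le_of_le ker_ge
  have h2 := Subgroup.card_le_of_le tau_le
  rw [card_Nk'] at h1
  rw [card_tau] at h2
  have hup : 2 * 3 * Nat.card KK ≤ 1701 * (64 * 1080) :=
    le_trans (Nat.mul_le_mul_left _ (Subgroup.card_le_of_le tri_ok.K_le_range)) tri_ok.card_range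
  have h3 : 3265920 * 3 ≤ Nat.card Mk := hsp ▸ Nat.mul_le_mul h2 h1
  have hM : Nat.card Mk = 3265920 * 3 := by omega
  refine ⟨?_, (Subgroup.eq_of_le_of_card_ge ker_ge ?_).symm, (Subgroup.eq_of_le_of_card_ge tau_le ?_).symm⟩
  · show triDat.orbMax * (triDat.masks.length * triDat.centMax) ≤ 2 * triDat.p * Nat.card KK
    rw [hMK, hM]
    exact le_of_eq rfl
  · rw [card_Nk']
    have h4 : 3265920 * Nat.card thetaM.ker ≤ Nat.card Mk := hsp ▸ Nat.mul_le_mul_right _ h2
    omega
  · rw [card_tau]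
    have h4 : Nat.card thetaM.range * 3 ≤ Nat.card Mk := hsp ▸ Nat.mul_le_mul_left _ h1
    omega

theorem theta_iso (F : Type) [Field F] [Fintype F] (hF : Fintype.card F = 9) :
    Nonempty (↥thetaM.range ≃* Cfsg.PSU 4 F 3) := by
  obtain ⟨e⟩ := gx_iso F hF
  exact ⟨(MulEquiv.subgroupCongr tri_big.2.2).trans ((MonoidHom.ofInjective tau_injective).symm.trans e)⟩

/-- what the local analysis needs -/
theorem tri_noTwo : ∀ W : Subgroup KK, W.Normal → IsPGroup 2 W → W = ⊥ := by
  intro W hW h2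
  haveI := hW
  haveI : Fact (Nat.Prime 2) := ⟨Nat.prime_two⟩
  haveI : Fintype (GaloisField 3 2) := Fintype.ofFinite _
  have hF : Fintype.card (GaloisField 3 2) = 9 := by
    rw [← Nat.card_eq_fintype_card, GaloisField.card 3 2 (by norm_num)]
    norm_num
  obtain ⟨e⟩ := theta_iso (GaloisField 3 2) hF
  haveI := S0283.result (F := GaloisField 3 2) (q := 3) (by rw [hF]; norm_num) 4 (by norm_num) (by norm_num)
  haveI : Nontrivial ↥thetaM.range := e.toEquiv.nontrivial
  haveI : IsSimpleGroup ↥thetaM.range := IsSimpleGroup.isSimpleGroup_of_surjective e.symm.toMonoidHom e.symm.surjective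
  set WM := W.subgroupOf Mk
  haveI : WM.Normal := hW.subgroupOf Mk
  have hWM : IsPGroup 2 WM := h2.comap_subtype
  have himg : WM.map thetaM.rangeRestrict = ⊥ := by
    rcases Subgroup.Normal.eq_bot_or_eq_top
      (Subgroup.Normal.map (inferInstance : WM.Normal) _ thetaM.rangeRestrict_surjective) with h | h
    · exact h
    · exfalso
      have h' := hWM.map thetaM.rangeRestrict
      rw [h] at h'
      obtain ⟨n, hn⟩ := IsPGroup.iff_card.1 h'
      rw [Subgroup.card_top, tri_big.2.2, card_tau] at hn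
      have h3 : 3 ∣ 2 ^ n := hn ▸ (by norm_num)
      exact absurd (Nat.prime_three.dvd_of_dvd_pow h3) (by norm_num)
  have hWbot : ∀ w ∈ W, w ∈ Mk → w = 1 := by
    intro w hw hwM
    have h1 : (⟨w, hwM⟩ : Mk) ∈ thetaM.ker := by
      have : thetaM.rangeRestrict ⟨w, hwM⟩ ∈ WM.map thetaM.rangeRestrict := ⟨_, hw, rfl⟩
      rw [himg, Subgroup.mem_bot] at this
      exact congrArg Subtype.val this
    rw [tri_big.2.1] at h1
    have hN : IsPGroup 3 Nk := IsPGroup.of_card (n := 1) (by rw [card_Nk, pow_one])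
    haveI : Fact (Nat.Prime 3) := ⟨Nat.prime_three⟩
    exact Subgroup.disjoint_def.1 (IsPGroup.disjoint_of_ne 3 2 (by norm_num) Nk W hN h2) h1 hw
  rw [Subgroup.eq_bot_iff_forall]
  intro w hw
  refine hWbot w hw (Subgroup.mem_centralizer_singleton_iff.2 ?_)
  have hc : w * omg * w⁻¹ * omg⁻¹ = 1 := by
    haveI := Nk_normal
    refine hWbot _ ?_ (Nk_le (mul_mem (Nk_normal.conj_mem _ (Subgroup.mem_zpowers _) w) (inv_mem (Subgroup.mem_zpowers _))))
    rw [show w * omg * w⁻¹ * omg⁻¹ = w * (omg * w⁻¹ * omg⁻¹) by group]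
    exact mul_mem hw (hW.conj_mem _ (inv_mem hw) omg)
  rw [mul_inv_eq_one, mul_inv_eq_iff_eq_mul] at hc
  exact hc

theorem tri_shape (F : Type) [Field F] [Fintype F] (hF : Fintype.card F = 9) :
    ∃ (N M : Subgroup KK) (_ : N.Normal) (_ : M.Normal), N ≤ M ∧ Nat.card N = 3 ∧ M.index = 2 ∧
      ∃ φ : ↥M →* Cfsg.PSU 4 F 3, Function.Surjective φ ∧ φ.ker = N.subgroupOf M := by
  obtain ⟨e⟩ := theta_iso F hF
  refine ⟨Nk, Mk, Nk_normal, Mk_normal, Nk_le, card_Nk, index_Mk, e.toMonoidHom.comp thetaM.rangeRestrict,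
    e.surjective.comp thetaM.rangeRestrict_surjective, ?_⟩
  rw [← tri_big.2.1]
  ext x
  rw [MonoidHom.mem_ker, MonoidHom.comp_apply, MonoidHom.mem_ker, MulEquiv.coe_toMonoidHom, map_eq_one_iff _ e.injective]
  exact Subtype.ext_iff

end Cfsg.Agent.Spor.CoBig
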